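import Mathlib

/-!
# Thompson transfer, extremal form

If `G` has no normal subgroup of index two, `S` is a subgroup of odd index, `M` has index two in
`S`, `u` is an involution and `R` is a `2`-group centralising `u`, then some conjugation sends
`u` into `M` and at the same time `R` into `S`.
-/

namespace Cfsg.Agent.Lib.KondoClasses

variable {G : Type*} [Group G] [Finite G]

/-- the sign of any action is trivial without normal subgroups of index two -/
theorem sign_toPerm_eq_one (h2 : ∀ H : Subgroup G, H.Normal → H.index ≠ 2) {X : Type*}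
    [MulAction G X] [Fintype X] [DecidableEq X] (g : G) :
    Equiv.Perm.sign (MulAction.toPermHom G X g) = 1 := by
  set f : G →* ℤˣ := Equiv.Perm.sign.comp (MulAction.toPermHom G X) with hf
  have hdvd : f.ker.index ∣ 2 := by
    rw [Subgroup.index_ker]
    have h := Subgroup.card_subgroup_dvd_card f.range
    have h' : Nat.card ℤˣ = 2 := by rw [Nat.card_eq_fintype_card]; rfl
    rwa [h'] at h
  rcases (Nat.dvd_prime Nat.prime_two).1 hdvd with h | h
  · have : g ∈ f.ker := by rw [Subgroup.index_eq_one.1 h]; exact Subgroup.mem_top g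
    exact this
  · exact absurd h (h2 _ inferInstance)

/-- extremal form of Thompson's transfer lemma -/
theorem exists_conj_extremal (h2 : ∀ H : Subgroup G, H.Normal → H.index ≠ 2) (S : Subgroup G)
    (hS : Odd S.index) (M : Subgroup G) (hMS : M ≤ S) (hM : (M.subgroupOf S).index = 2)
    (u : G) (hu : u * u = 1) (R : Subgroup G) (hR : IsPGroup 2 R)
    (hRu : ∀ r ∈ R, r * u = u * r) :
    ∃ g : G, g⁻¹ * u * g ∈ M ∧ ∀ r ∈ R, g⁻¹ * r * g ∈ S := by
  classical
  haveI : Fact (Nat.Prime 2) := ⟨Nat.prime_two⟩
  haveI : (M.subgroupOf S).Normal := Subgroup.normal_of_index_eq_two hM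
  have hnorm : ∀ s ∈ S, ∀ m ∈ M, s⁻¹ * m * s ∈ M := by
    intro s hs m hm
    have h := Subgroup.Normal.conj_mem (inferInstance : (M.subgroupOf S).Normal)
      (⟨m, hMS hm⟩ : S) (by simpa [Subgroup.mem_subgroupOf] using hm) (⟨s, hs⟩ : S)⁻¹
    simpa [Subgroup.mem_subgroupOf] using h
  -- the cosets of `S` on which `u` lies in the conjugate of `M`
  let A : Set (G ⧸ S) := {y | ∃ g : G, (g : G ⧸ S) = y ∧ g⁻¹ * u * g ∈ M}
  have hAiff : ∀ g : G, (g : G ⧸ S) ∈ A ↔ g⁻¹ * u * g ∈ M := by
    intro g
    refine ⟨?_, fun h => ⟨g, rfl, h⟩⟩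
    rintro ⟨g', hg', h⟩
    have hs : g'⁻¹ * g ∈ S := QuotientGroup.eq.1 hg'
    have := hnorm _ hs _ h
    convert this using 1
    group
  letI : Fintype (G ⧸ M) := Fintype.ofFinite _
  letI : Fintype (G ⧸ S) := Fintype.ofFinite _
  let e := Subgroup.quotientEquivProdOfLE hMS
  have he : ∀ g : G, (e (g : G ⧸ M)).1 = (g : G ⧸ S) := fun g => rfl
  set σ := MulAction.toPermHom G (G ⧸ M) u with hσ
  have hσ2 : σ ^ 2 = 1 := by rw [hσ, ← map_pow, pow_two, hu, map_one]
  have hfix : ∀ x : G ⧸ M, x ∈ Function.fixedPoints σ ↔ (e x).1 ∈ A := by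
    intro x
    induction x using QuotientGroup.induction_on with
    | _ g =>
      rw [he, hAiff]
      have : σ (g : G ⧸ M) = ((u * g : G) : G ⧸ M) := rfl
      show σ (g : G ⧸ M) = (g : G ⧸ M) ↔ _
      rw [this, QuotientGroup.eq]
      constructor
      · intro h
        have h' := M.inv_mem h
        convert h' using 1
        group
      · intro h
        have h' := M.inv_mem h
        convert h' using 1
        group
  have hcard2 : Nat.card (S ⧸ M.subgroupOf S) = 2 := hM
  have hfixcard : Fintype.card (Function.fixedPoints σ) = 2 * Nat.card A := by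
    rw [← Nat.card_eq_fintype_card]
    have e1 : Function.fixedPoints σ ≃ A × (S ⧸ M.subgroupOf S) :=
      { toFun := fun x => (⟨(e x.1).1, (hfix x.1).1 x.2⟩, (e x.1).2)
        invFun := fun y => ⟨e.symm (y.1.1, y.2), (hfix _).2 (by simp)⟩
        left_inv := fun x => Subtype.ext (by simp)
        right_inv := fun y => by ext <;> simp }
    rw [Nat.card_congr e1, Nat.card_prod, hcard2, mul_comm]
  have hXcard : Fintype.card (G ⧸ M) = 2 * S.index := by
    rw [← Nat.card_eq_fintype_card, Nat.card_congr e, Nat.card_prod, hcard2, mul_comm]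
    rfl
  have hAle : Nat.card A ≤ S.index := Finite.card_subtype_le _
  have hsign := sign_toPerm_eq_one (X := G ⧸ M) h2 u
  rw [← hσ, Equiv.Perm.sign_of_pow_two_eq_one hσ2, hfixcard, hXcard, ← Nat.mul_sub,
    Nat.mul_div_cancel_left _ (by norm_num : 0 < 2)] at hsign
  have hAodd : Odd (Nat.card A) := by
    rcases Nat.even_or_odd (S.index - Nat.card A) with h | h
    · rcases Nat.even_or_odd (Nat.card A) with h' | h'
      · exfalso
        have : Even S.index := by
          have := h.add h'
          rwa [Nat.sub_add_cancel hAle] at this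
        exact (Nat.not_even_iff_odd.2 hS) this
      · exact h'
    · rw [h.neg_one_pow] at hsign; exact absurd hsign (by decide)
  -- `R` permutes these cosets
  have hstab : ∀ (r : R) (y : G ⧸ S), y ∈ A → (r : G) • y ∈ A := by
    intro r y hy
    induction y using QuotientGroup.induction_on with
    | _ g =>
      have hg := (hAiff g).1 hy
      show (((r : G) * g : G) : G ⧸ S) ∈ A
      rw [hAiff]
      convert hg using 1
      have := hRu r r.2
      calc ((r : G) * g)⁻¹ * u * ((r : G) * g) = g⁻¹ * ((r : G)⁻¹ * (u * r)) * g := by group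
        _ = g⁻¹ * u * g := by rw [← this]; group
  letI : MulAction R A :=
    { smul := fun r y => ⟨(r : G) • y.1, hstab r y.1 y.2⟩
      one_smul := fun y => Subtype.ext (one_smul G y.1)
      mul_smul := fun r s y => Subtype.ext (mul_smul (r : G) (s : G) y.1) }
  have hmod := hR.card_modEq_card_fixedPoints A
  have hne : Nat.card (MulAction.fixedPoints R A) ≠ 0 := by
    intro h
    rw [h] at hmod
    have := Nat.odd_iff.1 hAodd
    rw [Nat.ModEq] at hmod
    omega
  obtain ⟨⟨⟨y, hy⟩, hyfix⟩⟩ := (Nat.card_ne_zero.1 hne).1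
  induction y using QuotientGroup.induction_on with
  | _ g =>
    refine ⟨g, (hAiff g).1 hy, fun r hr => ?_⟩
    have h := congrArg Subtype.val (hyfix ⟨r, hr⟩)
    have h' : ((r * g : G) : G ⧸ S) = (g : G ⧸ S) := h
    have := S.inv_mem (QuotientGroup.eq.1 h')
    convert this using 1
    group

end Cfsg.Agent.Lib.KondoClasses
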