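import Cfsg.Agent.Lib.KondoClasses.Eight
import Cfsg.Agent.Lib.KondoClasses.Transfer

/-!
# Involution classes over a frame of dihedral groups (Kondo)

A frame is a copy `J` of `D8 ^ ι` inside a Sylow `2`-subgroup `S` that contains all elementary
abelian subgroups of maximal order of `S`, with `S` centralising `t`, the product of the central
involutions of the factors, and a character of `C(t)` that counts the non-central coordinates.
-/

namespace Cfsg.Agent.Lib.KondoClasses

open DihedralGroup Finset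

variable {ι : Type*} [Fintype ι] [DecidableEq ι] {G : Type*} [Group G] [Finite G]

/-- the data used in Kondo's count -/
structure Frame (G : Type*) [Group G] (ι : Type*) [Fintype ι] [DecidableEq ι] where
  S : Sylow 2 G
  e : (ι → D8) →* G
  inj : Function.Injective e
  mem : ∀ x, e x ∈ (S : Subgroup G)
  elem : ∀ E : Subgroup G, E ≤ (S : Subgroup G) → (∀ x ∈ E, x * x = 1) →
    4 ^ Fintype.card ι ≤ Nat.card E → E ≤ e.range
  cent : (S : Subgroup G) ≤ Subgroup.centralizer {e (zw univ)}
  χ : ↥(Subgroup.centralizer ({e (zw univ)} : Set G)) →* ℤˣ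
  χ_e : ∀ x (h : e x ∈ Subgroup.centralizer {e (zw univ)}), χ ⟨e x, h⟩ = ∏ j, psi (x j)
  perm : ∀ π : Equiv.Perm ι, ∃ c : G, ∀ x, c⁻¹ * e x * c = e (x ∘ π)
  invo : ∀ u ∈ Subgroup.centralizer ({e (zw univ)} : Set G), u * u = 1 →
    ∃ c x, c⁻¹ * u * c = e x

/-- conjugating into a Sylow subgroup inside an overgroup -/
theorem exists_conj_le (S : Sylow 2 G) {H : Subgroup G} (hSH : (S : Subgroup G) ≤ H)
    {P : Subgroup G} (hP : IsPGroup 2 P) (hPH : P ≤ H) :
    ∃ c ∈ H, ∀ x ∈ P, c⁻¹ * x * c ∈ (S : Subgroup G) := by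
  haveI : Fact (Nat.Prime 2) := ⟨Nat.prime_two⟩
  obtain ⟨Q, hQ⟩ := (hP.comap_subtype (K := H)).exists_le_sylow
  obtain ⟨c, hc⟩ := MulAction.exists_smul_eq H Q (S.subtype hSH)
  refine ⟨(c : G)⁻¹, H.inv_mem c.2, fun x hx => ?_⟩
  have hxQ : (⟨x, hPH hx⟩ : H) ∈ (Q : Subgroup H) := hQ (by simpa [Subgroup.mem_subgroupOf] using hx)
  have h' : c * ⟨x, hPH hx⟩ * c⁻¹ ∈ ((c • Q : Sylow 2 H) : Subgroup H) := by
    rw [Sylow.coe_subgroup_smul, Subgroup.mem_pointwise_smul_iff_inv_smul_mem]
    simpa [MulAut.smul_def, MulAut.conj_apply, mul_assoc] using hxQ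
  rw [hc, Sylow.coe_subtype] at h'
  simpa [Subgroup.mem_subgroupOf] using h'

namespace Frame

variable (F : Frame G ι)

/-- the central involution -/
abbrev t : G := F.e (zw univ)

/-- conjugates of centralisers that land in `S` land in the range -/
theorem into (g : G) {u : ι → D8} (hu : u * u = 1)
    (h : ∀ y, u * y = y * u → g⁻¹ * F.e y * g ∈ (F.S : Subgroup G)) {y : ι → D8}
    (hy : u * y = y * u) : ∃ y', F.e y' = g⁻¹ * F.e y * g := by
  set φ : (ι → D8) →* G := (MulAut.conj g⁻¹).toMonoidHom.comp F.e with hφ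
  have hφy : ∀ y, φ y = g⁻¹ * F.e y * g := fun y => by simp [hφ, MulAut.conj_apply]
  have hinj : Function.Injective φ := (MulAut.conj g⁻¹).injective.comp F.inj
  suffices hmem : y ∈ F.e.range.comap φ by
    obtain ⟨y', hy'⟩ := hmem
    exact ⟨y', hy'.trans (hφy y)⟩
  refine mem_of_klein_le _ hu (fun a ha => ?_) hy
  have hcomm : ∀ x ∈ kleinPi a, u * x = x * u ∧ x * x = 1 := fun x hx =>
    ⟨funext fun j => (eight_klein_abelian (mem_kleinPi.1 ha j) (mem_kleinPi.1 hx j)).2,
      funext fun j => (eight_klein_abelian (mem_kleinPi.1 hx j) (mem_kleinPi.1 hx j)).1⟩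
  have hE := F.elem ((kleinPi a).map φ) ?_ ?_ ?_
  · exact fun x hx => hE (Subgroup.mem_map_of_mem φ hx)
  · rintro _ ⟨x, hx, rfl⟩
    rw [hφy]
    exact h x (hcomm x hx).1
  · rintro _ ⟨x, hx, rfl⟩
    rw [← map_mul, (hcomm x hx).2, map_one]
  · rw [Subgroup.card_map_of_injective hinj, card_kleinPi]

/-- conjugation seen inside `D8 ^ ι` -/
theorem exists_hom (g : G) (L : Subgroup (ι → D8))
    (h : ∀ y ∈ L, ∃ y', F.e y' = g⁻¹ * F.e y * g) :
    ∃ α : L →* (ι → D8), Function.Injective α ∧ ∀ y : L, F.e (α y) = g⁻¹ * F.e y * g := by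
  choose f hf using fun y : L => h y y.2
  refine ⟨MonoidHom.mk' f fun x y => F.inj ?_, fun x y hxy => ?_, hf⟩
  · rw [map_mul, hf, hf, hf]; simp [mul_assoc]
  · have := congrArg F.e hxy
    simp only [MonoidHom.mk'_apply] at this
    rw [hf, hf, mul_left_inj, mul_right_inj] at this
    exact Subtype.ext (F.inj this)

/-- conjugation of a central element of `J` fixes the weight -/
theorem weight_conj {g : G} {U W : Finset ι} (h : g⁻¹ * F.e (zw U) * g = F.e (zw W)) :
    #U = #W := by
  classical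
  haveI : Fact (Nat.Prime 2) := ⟨Nat.prime_two⟩
  set K := Subgroup.centralizer ({F.e (zw W)} : Set G)
  have hJ : IsPGroup 2 F.e.range := F.S.isPGroup'.to_le (by rintro _ ⟨x, rfl⟩; exact F.mem x)
  have hJK : F.e.range ≤ K := by
    rintro _ ⟨x, rfl⟩
    rw [Subgroup.mem_centralizer_singleton_iff, ← map_mul, ← map_mul]
    exact congrArg F.e (funext fun j => (eight_commute_of_cen (cen_zw W j) _).symm)
  set φ : (ι → D8) →* G := (MulAut.conj g⁻¹).toMonoidHom.comp F.e with hφ
  have hφy : ∀ y, φ y = g⁻¹ * F.e y * g := fun y => by simp [hφ, MulAut.conj_apply]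
  have hφ2 : IsPGroup 2 φ.range := by
    rw [hφ, MonoidHom.range_comp]
    exact hJ.map _
  have hφK : φ.range ≤ K := by
    rintro _ ⟨x, rfl⟩
    rw [Subgroup.mem_centralizer_singleton_iff, ← h, ← hφy, ← map_mul, ← map_mul]
    exact congrArg φ (funext fun j => (eight_commute_of_cen (cen_zw U j) _).symm)
  -- a Sylow subgroup of `K` containing `J`
  obtain ⟨P, hP⟩ := (hJ.comap_subtype (K := K)).exists_le_sylow
  obtain ⟨Q, hQ⟩ := (hφ2.comap_subtype (K := K)).exists_le_sylow
  obtain ⟨c, hc⟩ := MulAction.exists_smul_eq K Q P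
  obtain ⟨h', -, hh'⟩ := exists_conj_le F.S (H := ⊤) le_top
    (P := (P : Subgroup K).map K.subtype) (P.isPGroup'.map _) le_top
  have h1 : ∀ y, h'⁻¹ * F.e y * h' ∈ (F.S : Subgroup G) := fun y =>
    hh' _ ⟨⟨F.e y, hJK ⟨y, rfl⟩⟩, hP (by simp [Subgroup.mem_subgroupOf]), rfl⟩
  set k := g * (c : G)⁻¹ * h' with hk
  have h2 : ∀ y, k⁻¹ * F.e y * k ∈ (F.S : Subgroup G) := fun y => by
    have hyQ : (⟨φ y, hφK ⟨y, rfl⟩⟩ : K) ∈ (Q : Subgroup K) :=
      hQ (by simp [Subgroup.mem_subgroupOf])
    have hyP : c * ⟨φ y, hφK ⟨y, rfl⟩⟩ * c⁻¹ ∈ (P : Subgroup K) := by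
      rw [← hc, Sylow.coe_subgroup_smul, Subgroup.mem_pointwise_smul_iff_inv_smul_mem]
      simpa [MulAut.smul_def, MulAut.conj_apply, mul_assoc] using hyQ
    have := hh' _ ⟨_, hyP, rfl⟩
    simpa [hk, hφy, mul_assoc] using this
  have key : ∀ g' : G, (∀ y, g'⁻¹ * F.e y * g' ∈ (F.S : Subgroup G)) →
      ∀ V : Finset ι, ∃ V' : Finset ι, #V' = #V ∧ F.e (zw V') = g'⁻¹ * F.e (zw V) * g' := by
    intro g' hg'
    obtain ⟨α, hαinj, hα⟩ := F.exists_hom g' ⊤
      (fun y _ => F.into g' (u := 1) (one_mul 1) (fun y _ => hg' y) (by simp))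
    let β : (ι → D8) →* (ι → D8) := α.comp Subgroup.topEquiv.symm.toMonoidHom
    have hβinj : Function.Injective β := hαinj.comp Subgroup.topEquiv.symm.injective
    have hβsurj : Function.Surjective β := Finite.surjective_of_injective hβinj
    have hz : ∀ i, ∃ j, β (zw {i}) = zw {j} := by
      intro i
      set x₀ : ι → D8 := Pi.mulSingle i (sr 0) with hx₀
      have hcomm : ∀ y, x₀ * y * x₀⁻¹ * y⁻¹ = 1 ∨ x₀ * y * x₀⁻¹ * y⁻¹ = zw {i} := by
        intro y
        rcases eight_comm_cases (sr 0) (y i) with hh | hh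
        · left; funext j
          by_cases hj : j = i
          · subst hj; simpa [hx₀] using hh
          · simp [hx₀, hj]
        · right; funext j
          by_cases hj : j = i
          · subst hj; simpa [hx₀, zw] using hh
          · simp [hx₀, zw, hj]
      have hne : ∃ j, ¬ Cen (β x₀ j) := by
        by_contra hc'
        push Not at hc'
        have hcentral : x₀ * Pi.mulSingle i (sr 1) = Pi.mulSingle i (sr 1) * x₀ := by
          apply hβinj
          rw [map_mul, map_mul]
          exact funext fun j => eight_commute_of_cen (hc' j) _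
        have := congrFun hcentral i
        simp [hx₀] at this
        exact absurd this (by decide)
      obtain ⟨j, hj⟩ := hne
      obtain ⟨d, hd⟩ := eight_noncentral hj
      obtain ⟨y, hy⟩ := hβsurj (Pi.mulSingle j d)
      refine ⟨j, ?_⟩
      have hzj : β x₀ * β y * (β x₀)⁻¹ * (β y)⁻¹ = zw {j} := by
        funext k
        by_cases hk' : k = j
        · subst hk'; simpa [hy, zw] using hd
        · simp [hy, zw, hk']
      rw [← map_inv, ← map_inv, ← map_mul, ← map_mul, ← map_mul] at hzj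
      rcases hcomm y with hh | hh
      · exfalso
        rw [hh, map_one] at hzj
        have := congrFun hzj j
        simp [zw] at this
        exact absurd this (by decide)
      · rw [← hh]; exact hzj
    choose f hf using hz
    have hfinj : Function.Injective f := fun i j hij => by
      have := hβinj ((hf i).trans ((congrArg (fun k => zw {k}) hij).trans (hf j).symm))
      simpa using zw_injective this
    intro V
    refine ⟨V.image f, Finset.card_image_of_injective _ hfinj, ?_⟩
    have : β (zw V) = zw (V.image f) := by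
      induction V using Finset.induction with
      | empty => simp [zw_empty]
      | insert i V hi ih =>
        rw [zw_insert hi, map_mul, hf, ih, Finset.image_insert,
          zw_insert (by simpa [hfinj.eq_iff] using hi)]
    rw [← this]
    exact hα _
  obtain ⟨U', hU', hUe⟩ := key k h2 U
  obtain ⟨W', hW', hWe⟩ := key h' h1 W
  have hcW : (c : G) * F.e (zw W) * (c : G)⁻¹ = F.e (zw W) := by
    rw [Subgroup.mem_centralizer_singleton_iff.1 c.2, mul_inv_cancel_right]
  have heq : F.e (zw U') = F.e (zw W') := by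
    rw [hUe, hWe]
    conv_rhs => rw [← hcW, ← h]
    simp [hk, mul_assoc]
  rw [← hU', ← hW', zw_injective (F.inj heq)]

end Frame

end Cfsg.Agent.Lib.KondoClasses
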