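import Cfsg.Agent.Lib.KondoClasses.Frame

/-!
# Kondo's count of involution classes over a frame

Without subgroups of index two every non-central coordinate of an involution of `J` can be fused
away, so the involution classes correspond to the possible weights `1, …, |ι|`.
-/

namespace Cfsg.Agent.Lib.KondoClasses

open DihedralGroup Finset

variable {ι : Type*} [Fintype ι] [DecidableEq ι] {G : Type*} [Group G] [Finite G]

theorem eight_cen_or_mul_cen {a : ZMod 4} {c d : D8} (hc : sr a * c = c * sr a)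
    (hd : sr a * d = d * sr a) (hd' : ¬ Cen d) : Cen c ∨ Cen (c * d) := by
  revert a c d; decide

/-- Sylow conjugacy inside a subgroup -/
theorem exists_conj_le_sylow {K : Subgroup G} (P : Sylow 2 K) {Q : Subgroup G}
    (hQ : IsPGroup 2 Q) (hQK : Q ≤ K) :
    ∃ d ∈ K, ∀ x ∈ Q, d⁻¹ * x * d ∈ (P : Subgroup K).map K.subtype := by
  haveI : Fact (Nat.Prime 2) := ⟨Nat.prime_two⟩
  obtain ⟨P', hP'⟩ := (hQ.comap_subtype (K := K)).exists_le_sylow
  obtain ⟨c, hc⟩ := MulAction.exists_smul_eq K P' P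
  refine ⟨(c : G)⁻¹, K.inv_mem c.2, fun x hx => ?_⟩
  have hxP : (⟨x, hQK hx⟩ : K) ∈ (P' : Subgroup K) :=
    hP' (by simpa [Subgroup.mem_subgroupOf] using hx)
  refine ⟨c * ⟨x, hQK hx⟩ * c⁻¹, ?_, by simp⟩
  rw [← hc, Sylow.coe_subgroup_smul, SetLike.mem_coe, Subgroup.mem_pointwise_smul_iff_inv_smul_mem]
  simpa [MulAut.smul_def, MulAut.conj_apply, mul_assoc] using hxP

namespace Frame

variable (F : Frame G ι)

/-- the centraliser of one reflection in one coordinate -/
abbrev lsub (i : ι) (a : ZMod 4) : Subgroup (ι → D8) :=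
  Subgroup.centralizer {Pi.mulSingle i (sr a)}

theorem mem_lsub {i : ι} {a : ZMod 4} {y : ι → D8} :
    y ∈ lsub i a ↔ sr a * y i = y i * sr a := by
  rw [Subgroup.mem_centralizer_singleton_iff]
  constructor
  · intro h
    have := congrFun h i
    simpa using this.symm
  · intro h
    funext j
    by_cases hj : j = i
    · subst hj; simpa using h.symm
    · simp [hj]

theorem zw_mem_lsub (i : ι) (a : ZMod 4) (W : Finset ι) : zw W ∈ lsub i a :=
  mem_lsub.2 (eight_commute_of_cen (cen_zw W i) _).symm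

/-- some element normalises the centraliser of a reflection and moves `t` -/
theorem exists_mover (h2 : ∀ H : Subgroup G, H.Normal → H.index ≠ 2) (i : ι) (a : ZMod 4) :
    ∃ g : G, (∀ y ∈ lsub i a, ∃ y' ∈ lsub i a, F.e y' = g⁻¹ * F.e y * g) ∧
      g⁻¹ * F.t * g ≠ F.t := by
  classical
  haveI : Fact (Nat.Prime 2) := ⟨Nat.prime_two⟩
  by_contra hno
  push Not at hno
  set u₀ : ι → D8 := Pi.mulSingle i (sr a) with hu₀
  have hu₀2 : u₀ * u₀ = 1 := by
    rw [hu₀, ← Pi.mulSingle_mul]
    simp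
  have hnc₀ : nc u₀ = 1 := by
    have h1 : nc (1 : ι → D8) = 0 := nc_eq_zero.2 fun j => Or.inl rfl
    have h := nc_update_of_cen (x := (1 : ι → D8)) (i := i) (Or.inl rfl) a
    rw [h1] at h
    simpa [hu₀, Pi.mulSingle] using h
  set C := Subgroup.centralizer ({F.t} : Set G) with hC
  have hSC : (F.S : Subgroup G) ≤ C := F.cent
  have heC : ∀ y, F.e y ∈ C := fun y => hSC (F.mem y)
  set K₀ := C ⊓ Subgroup.centralizer ({F.e u₀} : Set G) with hK₀
  have hLK : (lsub i a).map F.e ≤ K₀ := by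
    rintro _ ⟨y, hy, rfl⟩
    refine ⟨heC y, ?_⟩
    refine Subgroup.mem_centralizer_singleton_iff.2 ?_
    rw [← map_mul, ← map_mul]
    exact congrArg F.e (Subgroup.mem_centralizer_singleton_iff.1 hy)
  have hL2 : IsPGroup 2 ((lsub i a).map F.e) :=
    F.S.isPGroup'.to_le (by rintro _ ⟨y, -, rfl⟩; exact F.mem y)
  obtain ⟨R₀, hR₀⟩ := (hL2.comap_subtype (K := K₀)).exists_le_sylow
  obtain ⟨c, hcC, hc⟩ := exists_conj_le F.S hSC (P := (R₀ : Subgroup K₀).map K₀.subtype)
    (R₀.isPGroup'.map _) (fun x hx => by obtain ⟨x, -, rfl⟩ := hx; exact x.2.1)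
  have hcy : ∀ y, u₀ * y = y * u₀ → c⁻¹ * F.e y * c ∈ (F.S : Subgroup G) := fun y hy =>
    hc _ ⟨⟨F.e y, hLK ⟨y, Subgroup.mem_centralizer_singleton_iff.2 hy.symm, rfl⟩⟩,
      hR₀ (by
        simp only [Subgroup.mem_comap]
        exact ⟨y, Subgroup.mem_centralizer_singleton_iff.2 hy.symm, rfl⟩), rfl⟩
  obtain ⟨α, hαinj, hα⟩ := F.exists_hom c (lsub i a) fun y hy =>
    F.into c hu₀2 hcy (Subgroup.mem_centralizer_singleton_iff.1 hy).symm
  set u₀' : lsub i a := ⟨u₀, Subgroup.mem_centralizer_singleton_iff.2 rfl⟩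
  set v := α u₀' with hv
  set u' := F.e v with hu'
  have hu'c : u' = c⁻¹ * F.e u₀ * c := hα u₀'
  have hv2 : v * v = 1 := by
    rw [hv, ← map_mul, show u₀' * u₀' = 1 from Subtype.ext hu₀2, map_one]
  have hvcomm : ∀ y : lsub i a, v * α y = α y * v := fun y => by
    rw [hv, ← map_mul, ← map_mul]
    exact congrArg α (Subtype.ext (Subgroup.mem_centralizer_singleton_iff.1 y.2).symm)
  let emb : {y : ι → D8 // u₀ * y = y * u₀} → {y : ι → D8 // v * y = y * v} := fun y =>
    ⟨α ⟨y.1, Subgroup.mem_centralizer_singleton_iff.2 y.2.symm⟩, hvcomm _⟩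
  have hembinj : Function.Injective emb := fun x y hxy => by
    have := hαinj (congrArg Subtype.val hxy)
    exact Subtype.ext (Subtype.mk.inj this)
  have hncv : nc v ≤ 1 :=
    hnc₀ ▸ nc_le_of_card_le (Nat.card_le_card_of_injective emb hembinj)
  have hχ₀ : F.χ ⟨F.e u₀, heC _⟩ = -1 := by rw [F.χ_e, prod_psi hu₀2, hnc₀, pow_one]
  have hχu' : F.χ ⟨u', heC _⟩ = -1 := by
    have : (⟨u', heC _⟩ : C) = ⟨c, hcC⟩⁻¹ * ⟨F.e u₀, heC _⟩ * ⟨c, hcC⟩ := Subtype.ext hu'c
    rw [this, map_mul, map_mul, map_inv, mul_comm (F.χ ⟨c, hcC⟩)⁻¹, inv_mul_cancel_right, hχ₀]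
  have hncv1 : nc v = 1 := by
    rcases Nat.le_one_iff_eq_zero_or_eq_one.1 hncv with h | h
    · have := hχu'
      rw [show (⟨u', heC _⟩ : C) = ⟨F.e v, heC _⟩ from rfl, F.χ_e, prod_psi hv2, h] at this
      exact absurd this (by decide)
    · exact h
  have hbij : Function.Bijective emb := by
    refine hembinj.bijective_of_nat_card_le ?_
    have h1 := card_centralizer u₀
    have h2 := card_centralizer v
    rw [hnc₀] at h1
    rw [hncv1] at h2
    omega
  have hback : ∀ y, v * y = y * v → ∃ y₀ ∈ lsub i a, F.e y = c⁻¹ * F.e y₀ * c := by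
    intro y hy
    obtain ⟨⟨y₀, hy₀⟩, h⟩ := hbij.2 ⟨y, hy⟩
    refine ⟨y₀, Subgroup.mem_centralizer_singleton_iff.2 hy₀.symm, ?_⟩
    rw [← hα ⟨y₀, Subgroup.mem_centralizer_singleton_iff.2 hy₀.symm⟩]
    exact congrArg F.e (congrArg Subtype.val h).symm
  set K := Subgroup.centralizer ({u'} : Set G) with hK
  set R := (F.S : Subgroup G) ⊓ K with hR
  have hR2 : IsPGroup 2 R := F.S.isPGroup'.to_le inf_le_left
  have hyR : ∀ y, v * y = y * v → F.e y ∈ R := fun y hy => by
    refine ⟨F.mem y, ?_⟩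
    refine Subgroup.mem_centralizer_singleton_iff.2 ?_
    rw [← map_mul, ← map_mul, hy]
  -- `R` is a Sylow subgroup of the centraliser in `C`
  have hR₀le : Nat.card R₀ ≤ Nat.card R := by
    let f : R₀ → R := fun x => ⟨c⁻¹ * (x.1 : G) * c, hc _ ⟨x.1, x.2, rfl⟩, by
      refine Subgroup.mem_centralizer_singleton_iff.2 ?_
      rw [hu'c]
      have := Subgroup.mem_centralizer_singleton_iff.1 x.1.2.2
      calc c⁻¹ * (x.1 : G) * c * (c⁻¹ * F.e u₀ * c) = c⁻¹ * ((x.1 : G) * F.e u₀) * c := by group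
        _ = c⁻¹ * F.e u₀ * c * (c⁻¹ * (x.1 : G) * c) := by rw [this]; group⟩
    refine Nat.card_le_card_of_injective f fun x y hxy => ?_
    have := congrArg Subtype.val hxy
    simp only [f, mul_left_inj, mul_right_inj] at this
    exact Subtype.ext (Subtype.ext this)
  have hRmax : ∀ P : Subgroup G, IsPGroup 2 P → P ≤ C ⊓ K → R ≤ P → P = R := by
    intro P hP hPC hRP
    have hmap : P.map (MulAut.conj c).toMonoidHom ≤ K₀ := by
      rintro _ ⟨x, hx, rfl⟩
      obtain ⟨hxC, hxK⟩ := hPC hx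
      have hxu := Subgroup.mem_centralizer_singleton_iff.1 hxK
      rw [hu'c] at hxu
      refine ⟨C.mul_mem (C.mul_mem hcC hxC) (C.inv_mem hcC), ?_⟩
      refine Subgroup.mem_centralizer_singleton_iff.2 ?_
      show c * x * c⁻¹ * F.e u₀ = F.e u₀ * (c * x * c⁻¹)
      calc c * x * c⁻¹ * F.e u₀ = c * (x * (c⁻¹ * F.e u₀ * c)) * c⁻¹ := by group
        _ = F.e u₀ * (c * x * c⁻¹) := by rw [hxu]; group
    obtain ⟨P', hP'⟩ := ((hP.map (MulAut.conj c).toMonoidHom).comap_subtype (K := K₀)).exists_le_sylow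
    have h1 : Nat.card P ≤ Nat.card R₀ := by
      rw [← Subgroup.card_map_of_injective (f := (MulAut.conj c).toMonoidHom) (MulAut.conj c).injective,
        ← Nat.card_congr (Subgroup.subgroupOfEquivOfLe hmap).toEquiv,
        Sylow.card_eq_multiplicity R₀, ← Sylow.card_eq_multiplicity P']
      exact Subgroup.card_le_of_le hP'
    exact (Subgroup.eq_of_le_of_card_ge hRP (h1.trans hR₀le)).symm
  -- hence of the whole centraliser
  obtain ⟨P, hP⟩ := (hR2.comap_subtype (K := K)).exists_le_sylow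
  have hRP : R ≤ (P : Subgroup K).map K.subtype := fun x hx =>
    ⟨⟨x, hx.2⟩, hP (by simpa [Subgroup.mem_subgroupOf] using hx), rfl⟩
  set P' := (P : Subgroup K).map K.subtype with hP'
  have hP'2 : IsPGroup 2 P' := P.isPGroup'.map _
  have hP'K : P' ≤ K := by rintro _ ⟨x, -, rfl⟩; exact x.2
  have hPR : P' = R := by
    by_contra hne
    haveI : Finite P' := inferInstance
    haveI := hP'2.isNilpotent
    have hlt : R.subgroupOf P' < ⊤ := by
      rw [lt_top_iff_ne_top, Ne, Subgroup.subgroupOf_eq_top]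
      exact fun h => hne (le_antisymm h hRP)
    obtain ⟨x, hxn, hxR⟩ := SetLike.exists_of_lt
      (Group.normalizerCondition_of_isNilpotent (R.subgroupOf P') hlt)
    have hxRn : ∀ r ∈ R, (x : G)⁻¹ * r * x ∈ R := fun r hr => by
      have := (Subgroup.mem_normalizer_iff''.1 hxn ⟨r, hRP hr⟩).1
        (by simpa [Subgroup.mem_subgroupOf] using hr)
      simpa [Subgroup.mem_subgroupOf] using this
    have hxK : (x : G) ∈ K := hP'K x.2
    have hnrm : ∀ y₀ ∈ lsub i a, ∃ y₁ ∈ lsub i a,
        F.e y₁ = (c * x * c⁻¹)⁻¹ * F.e y₀ * (c * x * c⁻¹) := by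
      intro y₀ hy₀
      have hy : v * α ⟨y₀, hy₀⟩ = α ⟨y₀, hy₀⟩ * v := hvcomm _
      obtain ⟨y', hy'⟩ := F.into (x : G) hv2 (fun y hy => (hxRn _ (hyR y hy)).1) hy
      have hy'v : v * y' = y' * v := by
        apply F.inj
        rw [map_mul, map_mul, hy']
        have h1 : (x : G) * u' = u' * x := Subgroup.mem_centralizer_singleton_iff.1 hxK
        have h1' : u' * (x : G)⁻¹ = (x : G)⁻¹ * u' := by
          calc u' * (x : G)⁻¹ = (x : G)⁻¹ * (x * u') * (x : G)⁻¹ := by group
            _ = (x : G)⁻¹ * u' := by rw [h1]; group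
        have h2 : u' * F.e (α ⟨y₀, hy₀⟩) = F.e (α ⟨y₀, hy₀⟩) * u' := by
          rw [hu']
          exact (map_mul F.e _ _).symm.trans ((congrArg F.e hy).trans (map_mul F.e _ _))
        rw [← hu']
        calc u' * ((x : G)⁻¹ * F.e (α ⟨y₀, hy₀⟩) * x)
            = (u' * (x : G)⁻¹) * F.e (α ⟨y₀, hy₀⟩) * x := by group
          _ = (x : G)⁻¹ * (u' * F.e (α ⟨y₀, hy₀⟩)) * x := by rw [h1']; group
          _ = (x : G)⁻¹ * F.e (α ⟨y₀, hy₀⟩) * (u' * x) := by rw [h2]; group
          _ = (x : G)⁻¹ * F.e (α ⟨y₀, hy₀⟩) * x * u' := by rw [← h1]; group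
      obtain ⟨y₁, hy₁, he⟩ := hback y' hy'v
      refine ⟨y₁, hy₁, ?_⟩
      rw [hy', hα] at he
      calc F.e y₁ = c * (c⁻¹ * F.e y₁ * c) * c⁻¹ := by group
        _ = c * ((x : G)⁻¹ * (c⁻¹ * F.e y₀ * c) * x) * c⁻¹ := by rw [← he]
        _ = _ := by group
    have hgt := hno _ hnrm
    have hxC : (x : G) ∈ C := by
      have h : c * (x : G) * c⁻¹ ∈ C := by
        rw [hC, Subgroup.mem_centralizer_singleton_iff]
        calc c * (x : G) * c⁻¹ * F.t
            = c * (x : G) * c⁻¹ * ((c * (x : G) * c⁻¹)⁻¹ * F.t * (c * (x : G) * c⁻¹)) := by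
              rw [hgt]
          _ = F.t * (c * (x : G) * c⁻¹) := by group
      simpa [mul_assoc] using C.mul_mem (C.mul_mem (C.inv_mem hcC) h) hcC
    have heq : P' ⊓ C = R := hRmax _ (hP'2.to_le inf_le_left) (fun z hz => ⟨hz.2, hP'K hz.1⟩)
      (le_inf hRP (inf_le_left.trans hSC))
    exact hxR (Subgroup.mem_subgroupOf.2 (heq ▸ Subgroup.mem_inf.2 ⟨x.2, hxC⟩))
  -- transfer
  set χS : (F.S : Subgroup G) →* ℤˣ := F.χ.comp (Subgroup.inclusion hSC) with hχS
  set M := χS.ker.map (F.S : Subgroup G).subtype with hM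
  have hMS : M ≤ (F.S : Subgroup G) := Subgroup.map_subtype_le _
  have hMidx : (M.subgroupOf (F.S : Subgroup G)).index = 2 := by
    rw [hM, Subgroup.subgroupOf, Subgroup.comap_map_eq_self_of_injective
      (Subgroup.subtype_injective _), Subgroup.index_ker, MonoidHom.range_eq_top.2, Subgroup.card_top,
      Nat.card_eq_fintype_card]
    · rfl
    · intro e
      rcases Int.units_eq_one_or e with rfl | rfl
      · exact ⟨1, map_one _⟩
      · exact ⟨⟨u', F.mem v⟩, hχu'⟩
  obtain ⟨g, hgM, hgR⟩ := exists_conj_extremal h2 (F.S : Subgroup G)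
    (Nat.odd_iff.2 (Nat.two_dvd_ne_zero.1 F.S.not_dvd_index)) M hMS hMidx u'
    (by rw [hu', ← map_mul, hv2, map_one]) R hR2
    (fun r hr => Subgroup.mem_centralizer_singleton_iff.1 hr.2)
  obtain ⟨γ, hγinj, hγ⟩ := F.exists_hom g (Subgroup.centralizer {v}) fun y hy =>
    F.into g hv2 (fun y hy => hgR _ (hyR y hy)) (Subgroup.mem_centralizer_singleton_iff.1 hy).symm
  set v₁ : Subgroup.centralizer ({v} : Set (ι → D8)) :=
    ⟨v, Subgroup.mem_centralizer_singleton_iff.2 rfl⟩
  have hw2 : γ v₁ * γ v₁ = 1 := by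
    rw [← map_mul, show v₁ * v₁ = 1 from Subtype.ext hv2, map_one]
  have hncw : nc (γ v₁) = 0 := by
    have hle : nc (γ v₁) ≤ 1 := by
      refine hncv1 ▸ nc_le_of_card_le (Nat.card_le_card_of_injective
        (fun y : {y : ι → D8 // v * y = y * v} =>
          (⟨γ ⟨y.1, Subgroup.mem_centralizer_singleton_iff.2 y.2.symm⟩, by
            rw [← map_mul, ← map_mul]; exact congrArg γ (Subtype.ext y.2)⟩ :
            {y : ι → D8 // γ v₁ * y = y * γ v₁})) fun x y hxy => ?_)
      have := hγinj (congrArg Subtype.val hxy)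
      exact Subtype.ext (Subtype.mk.inj this)
    obtain ⟨z, hz, hzeq⟩ := hgM
    rw [← hγ v₁] at hzeq
    have h1 : F.χ ⟨F.e (γ v₁), heC _⟩ = 1 := by
      have : (⟨F.e (γ v₁), heC _⟩ : C) = Subgroup.inclusion hSC z := Subtype.ext hzeq.symm
      rw [this]; exact hz
    rw [F.χ_e, prod_psi hw2] at h1
    rcases Nat.le_one_iff_eq_zero_or_eq_one.1 hle with h | h
    · exact h
    · rw [h] at h1; exact absurd h1 (by decide)
  -- a conjugate of `J` inside `R`
  have hJ : IsPGroup 2 (F.e.range.map (MulAut.conj g).toMonoidHom) :=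
    (F.S.isPGroup'.to_le (by rintro _ ⟨x, rfl⟩; exact F.mem x)).map _
  have hJK : F.e.range.map (MulAut.conj g).toMonoidHom ≤ K := by
    rintro _ ⟨_, ⟨y, rfl⟩, rfl⟩
    rw [hK, Subgroup.mem_centralizer_singleton_iff]
    have hcen := congrArg F.e (funext fun j => eight_commute_of_cen (nc_eq_zero.1 hncw j) (y j) :
      γ v₁ * y = y * γ v₁)
    rw [map_mul, map_mul, hγ v₁] at hcen
    show g * F.e y * g⁻¹ * u' = u' * (g * F.e y * g⁻¹)
    calc g * F.e y * g⁻¹ * u' = g * (F.e y * (g⁻¹ * F.e v * g)) * g⁻¹ := by rw [hu']; group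
      _ = u' * (g * F.e y * g⁻¹) := by
        rw [← hcen, hu']
        show g * (g⁻¹ * F.e v * g * F.e y) * g⁻¹ = _
        group
  obtain ⟨d, hdK, hd⟩ := exists_conj_le_sylow P hJ hJK
  have hk : ∀ y, (g⁻¹ * d)⁻¹ * F.e y * (g⁻¹ * d) ∈ R := fun y => by
    rw [← hPR]
    have h' := hd _ ⟨F.e y, ⟨y, rfl⟩, rfl⟩
    change d⁻¹ * (g * F.e y * g⁻¹) * d ∈ P' at h'
    convert h' using 1
    group
  obtain ⟨δ, hδinj, hδ⟩ := F.exists_hom (g⁻¹ * d) ⊤ fun y _ =>
    F.into _ (u := 1) (one_mul 1) (fun y _ => (hk y).1) (by simp)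
  have hδv : ∀ y, v * δ y = δ y * v := fun y => by
    apply F.inj
    rw [map_mul, map_mul, hδ y]
    exact (Subgroup.mem_centralizer_singleton_iff.1 (hk y).2).symm
  have hcard := Nat.card_le_card_of_injective
    (fun y : (⊤ : Subgroup (ι → D8)) => (⟨δ y, hδv y⟩ : {y : ι → D8 // v * y = y * v}))
    (fun x y hxy => hδinj (congrArg Subtype.val hxy))
  rw [Subgroup.card_top, Nat.card_eq_fintype_card, Fintype.card_fun] at hcard
  have h8 := card_centralizer v
  rw [hncv1] at h8
  have : 0 < 8 ^ Fintype.card ι := by positivity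
  rw [show Fintype.card D8 = 8 from rfl] at hcard
  omega

/-- the normalising map of a mover on a centraliser of a reflection -/
theorem exists_toggle (h2 : ∀ H : Subgroup G, H.Normal → H.index ≠ 2) (i : ι) (a : ZMod 4) :
    ∃ α : lsub i a →* lsub i a, Function.Injective α ∧
      (∀ y : lsub i a, IsConj (F.e y) (F.e (α y))) ∧
      ¬ Cen ((α ⟨zw {i}, zw_mem_lsub i a _⟩ : ι → D8) i) ∧
      ∀ j, j ≠ i → Cen ((α ⟨zw {i}, zw_mem_lsub i a _⟩ : ι → D8) j) := by
  classical
  obtain ⟨g, hg, hmove⟩ := F.exists_mover h2 i a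
  obtain ⟨α₀, hα₀inj, hα₀⟩ := F.exists_hom g (lsub i a)
    fun y hy => (hg y hy).elim fun y' h => ⟨y', h.2⟩
  have hmem : ∀ y, α₀ y ∈ lsub i a := fun y => by
    obtain ⟨y', hy', he⟩ := hg y y.2
    rwa [F.inj ((hα₀ y).trans he.symm)]
  let α : lsub i a →* lsub i a := α₀.codRestrict _ hmem
  have hαinj : Function.Injective α := fun x y h => hα₀inj (congrArg Subtype.val h)
  have hαsurj : Function.Surjective α := Finite.surjective_of_injective hαinj
  have hconj : ∀ y : lsub i a, IsConj (F.e y) (F.e (α y)) := fun y =>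
    isConj_iff.2 ⟨g⁻¹, by rw [inv_inv]; exact (hα₀ y).symm⟩
  set zm : Finset ι → lsub i a := fun W => ⟨zw W, zw_mem_lsub i a W⟩ with hzm
  have hzmins : ∀ {W : Finset ι} {j : ι}, j ∉ W → zm (insert j W) = zm {j} * zm W :=
    fun h => Subtype.ext (zw_insert h)
  have hperm : ∀ j, j ≠ i → ∃ k, k ≠ i ∧ α (zm {j}) = zm {k} := by
    intro j hj
    have hx₀ : (Pi.mulSingle j (sr 0) : ι → D8) ∈ lsub i a :=
      mem_lsub.2 (by simp [Pi.mulSingle_eq_of_ne hj.symm])
    have hy₀ : (Pi.mulSingle j (sr 1) : ι → D8) ∈ lsub i a :=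
      mem_lsub.2 (by simp [Pi.mulSingle_eq_of_ne hj.symm])
    set x₀ : lsub i a := ⟨_, hx₀⟩
    have hcomm : ∀ y : lsub i a, x₀ * y * x₀⁻¹ * y⁻¹ = 1 ∨ x₀ * y * x₀⁻¹ * y⁻¹ = zm {j} := by
      intro y
      rcases eight_comm_cases (sr 0) (y.1 j) with hh | hh
      · left; refine Subtype.ext (funext fun k => ?_)
        by_cases hk : k = j
        · subst hk; simpa [x₀] using hh
        · simp [x₀, hk]
      · right; refine Subtype.ext (funext fun k => ?_)
        by_cases hk : k = j
        · subst hk; simpa [x₀, hzm, zw] using hh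
        · simp [x₀, hzm, zw, hk]
    have hex : ∃ k, k ≠ i ∧ ¬ Cen ((α x₀).1 k) := by
      by_contra hc
      push Not at hc
      have : x₀ * ⟨_, hy₀⟩ = ⟨_, hy₀⟩ * x₀ := by
        apply hαinj
        rw [map_mul, map_mul]
        refine Subtype.ext (funext fun k => ?_)
        by_cases hk : k = i
        · subst hk
          exact (eight_klein_abelian (mem_lsub.1 (α x₀).2) (mem_lsub.1 (α _).2)).2
        · exact eight_commute_of_cen (hc k hk) _
      have := congrFun (congrArg Subtype.val this) j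
      simp [x₀] at this
      exact absurd this (by decide)
    obtain ⟨k, hki, hk⟩ := hex
    obtain ⟨d, hd⟩ := eight_noncentral hk
    obtain ⟨y, hy⟩ := hαsurj ⟨Pi.mulSingle k d, mem_lsub.2 (by simp [Pi.mulSingle_eq_of_ne hki.symm])⟩
    have hzk : α (x₀ * y * x₀⁻¹ * y⁻¹) = zm {k} := by
      rw [map_mul, map_mul, map_mul, map_inv, map_inv, hy]
      refine Subtype.ext (funext fun l => ?_)
      by_cases hl : l = k
      · subst hl; simpa [hzm, zw] using hd
      · simp [hzm, zw, hl]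
    refine ⟨k, hki, ?_⟩
    rcases hcomm y with hh | hh
    · exfalso
      rw [hh, map_one] at hzk
      have := congrFun (congrArg Subtype.val hzk) k
      simp [hzm, zw] at this
      exact (by decide : ¬ ((1 : D8) = r 2)) this
    · rwa [hh] at hzk
  choose f hfi hf using hperm
  have hsingle : ∀ {j k : ι}, zm {j} = zm {k} → j = k := fun h => by
    simpa using zw_injective (congrArg Subtype.val h)
  have hfinj : ∀ j hj k hk, f j hj = f k hk → j = k := fun j hj k hk h => by
    apply hsingle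
    apply hαinj
    rw [hf j hj, hf k hk, h]
  let f' : {j // j ≠ i} → {j // j ≠ i} := fun j => ⟨f j.1 j.2, hfi _ _⟩
  have hf'inj : Function.Injective f' := fun j k h =>
    Subtype.ext (hfinj _ _ _ _ (congrArg Subtype.val h))
  have hf'surj : Function.Surjective f' := Finite.surjective_of_injective hf'inj
  have himage : ∀ W : Finset {j // j ≠ i},
      α (zm (W.map (Function.Embedding.subtype _)))
        = zm ((W.image f').map (Function.Embedding.subtype _)) := by
    intro W
    induction W using Finset.induction with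
    | empty =>
      simp only [Finset.map_empty, Finset.image_empty]
      rw [show zm ∅ = 1 from Subtype.ext zw_empty, map_one]
    | insert j W hj ih =>
      rw [Finset.map_insert, Finset.image_insert, Finset.map_insert,
        hzmins (fun h => hj ((Finset.mem_map' _).1 h)), map_mul, ih,
        hzmins (fun h => hj (by simpa [hf'inj.eq_iff] using (Finset.mem_map' _).1 h))]
      exact congrArg (· * _) (hf j.1 j.2)
  have hrest : α (zm (univ.erase i)) = zm (univ.erase i) := by
    have h : (univ : Finset {j // j ≠ i}).map (Function.Embedding.subtype _) = univ.erase i := by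
      ext j; simp
    have h' := himage univ
    rwa [Finset.image_univ_of_surjective hf'surj, h] at h'
  have hoff : ∀ j, j ≠ i → Cen ((α (zm {i})).1 j) := by
    intro j hj
    by_contra hc
    obtain ⟨d, hd⟩ := eight_noncentral hc
    obtain ⟨y, hy⟩ := hαsurj ⟨Pi.mulSingle j d, mem_lsub.2 (by simp [Pi.mulSingle_eq_of_ne hj.symm])⟩
    have hz : zm {i} * y = y * zm {i} :=
      Subtype.ext (funext fun k => eight_commute_of_cen (cen_zw {i} k) _)
    have := congrFun (congrArg Subtype.val (congrArg α hz)) j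
    simp only [map_mul, Subgroup.coe_mul, Pi.mul_apply, hy, Pi.mulSingle_eq_same] at this
    rw [this] at hd
    simp at hd
    exact absurd hd (by decide)
  refine ⟨α, hαinj, hconj, fun hcen => ?_, hoff⟩
  obtain ⟨W, hW⟩ := eq_zw_of_cen (x := (α (zm {i})).1) fun j => by
    by_cases hj : j = i
    · subst hj; exact hcen
    · exact hoff j hj
  have hweight : #({i} : Finset ι) = #W := by
    refine F.weight_conj (g := g) ?_
    rw [← hW]
    exact (hα₀ (zm {i})).symm
  rw [Finset.card_singleton] at hweight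
  obtain ⟨k, rfl⟩ := Finset.card_eq_one.1 hweight.symm
  have hWk : α (zm {i}) = zm {k} := Subtype.ext hW
  by_cases hk : k = i
  · subst hk
    apply hmove
    have hu : zm univ = zm {k} * zm (univ.erase k) := by
      rw [← hzmins (Finset.notMem_erase k univ), Finset.insert_erase (Finset.mem_univ k)]
    have : α (zm univ) = zm univ := by rw [hu, map_mul, hWk, hrest]
    have := congrArg (fun z : lsub k a => F.e z.1) this
    exact (hα₀ (zm univ)).symm.trans this
  · obtain ⟨⟨j, hj⟩, hjk⟩ := hf'surj ⟨k, hk⟩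
    refine hj (hsingle (hαinj ?_))
    rw [hWk, hf j hj]
    exact congrArg (fun l => zm {l}) (congrArg Subtype.val hjk)

/-- one non-central coordinate can be removed -/
theorem exists_conj_nc_lt (h2 : ∀ H : Subgroup G, H.Normal → H.index ≠ 2) {u : ι → D8}
    (hu : u * u = 1) (hnc : nc u ≠ 0) :
    ∃ v : ι → D8, v * v = 1 ∧ IsConj (F.e u) (F.e v) ∧ nc v < nc u := by
  classical
  rw [Ne, nc_eq_zero] at hnc
  push Not at hnc
  obtain ⟨i, hi⟩ := hnc
  obtain ⟨a, ha⟩ := (eight_sq_cases ((pi_sq_iff u).1 hu i)).resolve_left hi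
  obtain ⟨α, hαinj, hconj, hw, hwoff⟩ := F.exists_toggle h2 i a
  set w : lsub i a := ⟨zw {i}, zw_mem_lsub i a _⟩
  set x : lsub i a := ⟨u, mem_lsub.2 (by rw [ha])⟩
  have hxw : IsConj (F.e x.1) (F.e (x * w).1) := by
    refine isConj_iff.2 ⟨F.e (Pi.mulSingle i (r 1)), ?_⟩
    rw [← map_inv, ← map_mul, ← map_mul]
    refine congrArg F.e (funext fun j => ?_)
    by_cases hj : j = i
    · subst hj
      simpa [x, w, zw, ha] using eight_conj_sr a
    · simp [x, w, zw, hj]
  obtain ⟨x', hx'eq, hx'conj, hx'cen⟩ : ∃ x' : lsub i a,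
      Function.update x'.1 i (sr a) = u ∧ IsConj (F.e u) (F.e (α x').1) ∧ Cen ((α x').1 i) := by
    rcases eight_cen_or_mul_cen (mem_lsub.1 (α x).2) (mem_lsub.1 (α w).2) hw with h | h
    · exact ⟨x, by rw [← ha]; exact Function.update_eq_self i u, hconj x, h⟩
    · refine ⟨x * w, funext fun j => ?_, hxw.trans (hconj (x * w)), by rw [map_mul]; exact h⟩
      by_cases hj : j = i
      · subst hj; simp [ha]
      · simp [x, w, zw, hj]
  set v := (α x').1 with hv
  have hv2 : v * v = 1 := by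
    obtain ⟨c, hc⟩ := isConj_iff.1 hx'conj
    apply F.inj
    rw [map_mul, ← hc, map_one]
    calc c * F.e u * c⁻¹ * (c * F.e u * c⁻¹) = c * (F.e u * F.e u) * c⁻¹ := by group
      _ = 1 := by rw [← map_mul, hu, map_one]; group
  refine ⟨v, hv2, hx'conj, ?_⟩
  have hupd : ∀ (z y : lsub i a), Function.update z.1 i (sr a) * y.1
      = y.1 * Function.update z.1 i (sr a) ↔ z * y = y * z := by
    intro z y
    rw [Subtype.ext_iff, Subgroup.coe_mul, Subgroup.coe_mul, pi_commute_iff, pi_commute_iff]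
    refine forall_congr' fun j => ?_
    by_cases hj : j = i
    · subst hj
      simp [mem_lsub.1 y.2, (eight_klein_abelian (mem_lsub.1 z.2) (mem_lsub.1 y.2)).2]
    · simp [hj]
  have hle : nc (Function.update v i (sr a)) ≤ nc u := by
    have hL : ∀ y, u * y = y * u → y ∈ lsub i a := fun y hy =>
      mem_lsub.2 (by have := congrFun hy i; simpa [ha] using this)
    refine nc_le_of_card_le (Nat.card_le_card_of_injective
      (fun y : {y : ι → D8 // u * y = y * u} =>
        (⟨(α ⟨y.1, hL y.1 y.2⟩).1, (hupd (α x') (α ⟨y.1, hL y.1 y.2⟩)).2 (by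
          rw [← map_mul, ← map_mul]
          refine congrArg α ((hupd x' ⟨y.1, hL y.1 y.2⟩).1 ?_)
          rw [hx'eq]; exact y.2)⟩ :
          {y : ι → D8 // Function.update v i (sr a) * y = y * Function.update v i (sr a)}))
      fun y z hyz => ?_)
    have := hαinj (Subtype.ext (Subtype.mk.inj hyz) :
      α ⟨y.1, hL y.1 y.2⟩ = α ⟨z.1, hL z.1 z.2⟩)
    exact Subtype.ext (Subtype.mk.inj this)
  rw [nc_update_of_cen hx'cen] at hle
  omega

/-- every involution of `J` is fused to a central one -/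
theorem exists_conj_zw (h2 : ∀ H : Subgroup G, H.Normal → H.index ≠ 2) :
    ∀ (k : ℕ) (u : ι → D8), nc u = k → u * u = 1 → ∃ W, IsConj (F.e u) (F.e (zw W)) := by
  intro k
  induction k using Nat.strong_induction_on with
  | _ k ih =>
    intro u hk hu
    by_cases h0 : nc u = 0
    · obtain ⟨W, rfl⟩ := eq_zw_of_cen (nc_eq_zero.1 h0)
      exact ⟨W, IsConj.refl _⟩
    · obtain ⟨v, hv2, hconj, hlt⟩ := F.exists_conj_nc_lt h2 hu h0
      obtain ⟨W, hW⟩ := ih _ (hk ▸ hlt) v rfl hv2
      exact ⟨W, hconj.trans hW⟩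

include F in
/-- Kondo: there are exactly `|ι|` classes of involutions -/
theorem card_involution_classes (h2 : ∀ H : Subgroup G, H.Normal → H.index ≠ 2) :
    Nat.card {c : ConjClasses G // ∃ x ∈ c.carrier, orderOf x = 2} = Fintype.card ι := by
  classical
  haveI : Fact (Nat.Prime 2) := ⟨Nat.prime_two⟩
  let e := Fintype.equivFin ι
  let Wk : Fin (Fintype.card ι) → Finset ι := fun k => (Finset.Iic k).map e.symm.toEmbedding
  have hWk : ∀ k, #(Wk k) = k.1 + 1 := fun k => by simp [Wk]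
  have hord : ∀ W : Finset ι, W ≠ ∅ → orderOf (F.e (zw W)) = 2 := by
    intro W hW
    rw [orderOf_injective F.e F.inj]
    refine orderOf_eq_prime (funext fun j => ?_) fun h => hW (zw_injective (h.trans zw_empty.symm))
    by_cases hj : j ∈ W <;> simp [zw, hj, pow_two] <;> rfl
  let cls : Fin (Fintype.card ι) → {c : ConjClasses G // ∃ x ∈ c.carrier, orderOf x = 2} :=
    fun k => ⟨ConjClasses.mk (F.e (zw (Wk k))), _, ConjClasses.mem_carrier_mk,
      hord _ fun h => by simpa [h] using hWk k⟩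
  have hbij : Function.Bijective cls := by
    constructor
    · intro k l h
      have hc : IsConj (F.e (zw (Wk k))) (F.e (zw (Wk l))) :=
        ConjClasses.mk_eq_mk_iff_isConj.1 (congrArg Subtype.val h)
      obtain ⟨c, hc⟩ := isConj_iff.1 hc
      have := F.weight_conj (g := c⁻¹) (by rw [inv_inv]; exact hc)
      rw [hWk, hWk] at this
      exact Fin.ext (by omega)
    · rintro ⟨c, x, hx, hx2⟩
      have hc : c = ConjClasses.mk x := (ConjClasses.mem_carrier_iff_mk_eq.1 hx).symm
      subst hc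
      have hxx : x * x = 1 := by rw [← pow_two, ← hx2, pow_orderOf_eq_one]
      obtain ⟨c, -, hc⟩ := exists_conj_le F.S (H := ⊤) le_top (P := Subgroup.zpowers x)
        (IsPGroup.of_card (n := 1) (by rw [Nat.card_zpowers, hx2, pow_one])) le_top
      obtain ⟨d, y, hy⟩ := F.invo (c⁻¹ * x * c) (F.cent (hc x (Subgroup.mem_zpowers x))) (by
        calc c⁻¹ * x * c * (c⁻¹ * x * c) = c⁻¹ * (x * x) * c := by group
          _ = 1 := by rw [hxx]; group)
      have hxy : IsConj x (F.e y) := isConj_iff.2 ⟨(c * d)⁻¹, by rw [← hy]; group⟩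
      have hy2 : y * y = 1 := F.inj (by
        rw [map_mul, ← hy, map_one]
        calc d⁻¹ * (c⁻¹ * x * c) * d * (d⁻¹ * (c⁻¹ * x * c) * d)
            = d⁻¹ * c⁻¹ * (x * x) * c * d := by group
          _ = 1 := by rw [hxx]; group)
      obtain ⟨W, hW⟩ := F.exists_conj_zw h2 _ y rfl hy2
      have hxW : IsConj x (F.e (zw W)) := hxy.trans hW
      have hW0 : W ≠ ∅ := by
        rintro rfl
        rw [zw_empty, map_one, isConj_one_left] at hxW
        rw [hxW, orderOf_one] at hx2
        omega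
      have hpos : 0 < #W := Finset.card_pos.2 (Finset.nonempty_iff_ne_empty.2 hW0)
      have hle : #W ≤ Fintype.card ι := Finset.card_le_univ W
      refine ⟨⟨#W - 1, by omega⟩, Subtype.ext (ConjClasses.mk_eq_mk_iff_isConj.2 ?_)⟩
      obtain ⟨π, hπ⟩ : ∃ π : Equiv.Perm ι, W.map π.toEmbedding = Wk ⟨#W - 1, by omega⟩ := by
        have hcard : #W = #(Wk ⟨#W - 1, by omega⟩) := by rw [hWk]; show #W = #W - 1 + 1; omega
        refine ⟨(Finset.equivOfCardEq hcard).extendSubtype, ?_⟩
        refine Finset.eq_of_subset_of_card_le (fun j hj => ?_) (by simp [← hcard])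
        obtain ⟨l, hl, rfl⟩ := Finset.mem_map.1 hj
        exact Equiv.extendSubtype_mem _ l hl
      obtain ⟨g, hg⟩ := F.perm π.symm
      have hperm := hg (zw W)
      rw [zw_comp, Equiv.symm_symm, hπ] at hperm
      refine (IsConj.trans ?_ hxW.symm)
      exact (isConj_iff.2 ⟨g⁻¹, by rw [inv_inv]; exact hperm⟩ : IsConj (F.e (zw W)) _).symm
  rw [← Nat.card_congr (Equiv.ofBijective cls hbij), Nat.card_eq_fintype_card, Fintype.card_fin]

end Frame

end Cfsg.Agent.Lib.KondoClasses
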