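import Mathlib

/-!
# Powers of the dihedral group of order eight

Bookkeeping for `ι → DihedralGroup 4`: the number of non-central coordinates, the order of a
centraliser, and generation of a centraliser by elementary abelian subgroups of maximal order.
-/

namespace Cfsg.Agent.Lib.KondoClasses

open DihedralGroup Finset

/-- dihedral group of order eight -/
abbrev D8 := DihedralGroup 4

/-- the central elements -/
def Cen (d : D8) : Prop := d = 1 ∨ d = r 2

instance : DecidablePred Cen := fun d => inferInstanceAs (Decidable (d = 1 ∨ d = r 2))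

/-- the character with value `-1` on both classes of non-central involutions -/
def psi : D8 → ℤˣ
  | .r _ => 1
  | .sr _ => -1

theorem eight_commute_of_cen {c : D8} (h : Cen c) (d : D8) : c * d = d * c := by
  revert c d; decide

theorem eight_noncentral {c : D8} (h : ¬ Cen c) :
    ∃ d : D8, c * d * c⁻¹ * d⁻¹ = r 2 := by
  revert c; decide

theorem eight_comm_cases (c d : D8) : c * d * c⁻¹ * d⁻¹ = 1 ∨ c * d * c⁻¹ * d⁻¹ = r 2 := by
  revert c d; decide

theorem eight_sq_cases {c : D8} (h : c * c = 1) : Cen c ∨ ∃ a, c = sr a := by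
  revert c; decide

theorem eight_psi {c : D8} (h : c * c = 1) : psi c = if Cen c then 1 else -1 := by
  revert c; decide

theorem not_cen_sr (a : ZMod 4) : ¬ Cen (sr a : D8) := by
  revert a; decide

theorem eight_conj_sr (a : ZMod 4) : (r 1 : D8) * sr a * (r 1)⁻¹ = sr a * r 2 := by
  revert a; decide

theorem eight_split {c d : D8} (hc : c * c = 1) (h : c * d = d * c) :
    ∃ d₁ d₂ : D8, d₁ * d₁ = 1 ∧ d₂ * d₂ = 1 ∧ c * d₁ = d₁ * c ∧ c * d₂ = d₂ * c ∧
      d = d₁ * d₂ := by
  revert c d; decide

theorem eight_klein {c d : D8} (hc : c * c = 1) (hd : d * d = 1) (h : c * d = d * c) :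
    ∃ a : ZMod 4, sr a * c = c * sr a ∧ sr a * d = d * sr a := by
  revert c d; decide

theorem eight_klein_abelian {a : ZMod 4} {c d : D8} (hc : sr a * c = c * sr a)
    (hd : sr a * d = d * sr a) : c * c = 1 ∧ c * d = d * c := by
  revert a c d; decide

theorem eight_klein_cases {a : ZMod 4} {c : D8} (hc : sr a * c = c * sr a) :
    Cen c ∨ c = sr a ∨ c = sr a * r 2 := by
  revert a c; decide

theorem eight_card_comm (c : D8) :
    Fintype.card {d : D8 // c * d = d * c} * 2 ^ (if Cen c then 0 else 1) = 8 := by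
  revert c; decide

variable {ι : Type*}

/-- the central element with given support -/
def zw [DecidableEq ι] (W : Finset ι) : ι → D8 := fun j => if j ∈ W then r 2 else 1

theorem cen_zw [DecidableEq ι] (W : Finset ι) (j : ι) : Cen (zw W j) := by
  unfold zw; split
  · exact Or.inr rfl
  · exact Or.inl rfl

theorem zw_empty [DecidableEq ι] : zw (∅ : Finset ι) = 1 := by
  funext j; simp [zw]

theorem zw_insert [DecidableEq ι] {W : Finset ι} {i : ι} (h : i ∉ W) :
    zw (insert i W) = zw {i} * zw W := by
  funext j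
  by_cases hj : j = i
  · subst hj; simp [zw, h]
  · simp [zw, hj]

theorem zw_injective [DecidableEq ι] : Function.Injective (zw (ι := ι)) := by
  intro U W h
  ext j
  have hj := congrFun h j
  by_cases hU : j ∈ U <;> by_cases hW : j ∈ W <;> simp [zw, hU, hW] at hj ⊢
  all_goals exact absurd hj (by decide)

theorem zw_comp [DecidableEq ι] (W : Finset ι) (π : Equiv.Perm ι) :
    zw W ∘ π = zw (W.map π.symm.toEmbedding) := by
  funext j
  simp [zw, Finset.mem_map_equiv]

theorem eq_zw_of_cen [Fintype ι] [DecidableEq ι] {x : ι → D8} (h : ∀ j, Cen (x j)) :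
    ∃ W : Finset ι, x = zw W := by
  refine ⟨univ.filter (fun j => x j = r 2), funext fun j => ?_⟩
  rcases h j with hj | hj
  · have : ¬ x j = r 2 := by rw [hj]; decide
    simp [zw, this, hj]
  · simp [zw, hj]

theorem pi_commute_iff (x y : ι → D8) : x * y = y * x ↔ ∀ j, x j * y j = y j * x j :=
  ⟨fun h j => congrFun h j, fun h => funext h⟩

theorem pi_sq_iff (x : ι → D8) : x * x = 1 ↔ ∀ j, x j * x j = 1 :=
  ⟨fun h j => congrFun h j, fun h => funext h⟩

variable [Fintype ι] [DecidableEq ι]

/-- number of non-central coordinates -/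
def nc (x : ι → D8) : ℕ := #(univ.filter fun j => ¬ Cen (x j))

theorem nc_eq_zero {x : ι → D8} : nc x = 0 ↔ ∀ j, Cen (x j) := by
  simp [nc, Finset.card_eq_zero, Finset.filter_eq_empty_iff]

theorem prod_psi {x : ι → D8} (h : x * x = 1) : ∏ j, psi (x j) = (-1) ^ nc x := by
  have : ∀ j, psi (x j) = if ¬ Cen (x j) then (-1 : ℤˣ) else 1 := by
    intro j
    rw [eight_psi ((pi_sq_iff x).1 h j)]
    by_cases hj : Cen (x j) <;> simp [hj]
  rw [Finset.prod_congr rfl fun j _ => this j, ← Finset.prod_filter, Finset.prod_const]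
  rfl

theorem nc_update_of_cen {x : ι → D8} {i : ι} (h : Cen (x i)) (a : ZMod 4) :
    nc (Function.update x i (sr a)) = nc x + 1 := by
  have hset : (univ.filter fun j => ¬ Cen (Function.update x i (sr a) j))
      = insert i (univ.filter fun j => ¬ Cen (x j)) := by
    ext j
    by_cases hj : j = i
    · subst hj
      simp [not_cen_sr]
    · simp [hj]
  rw [nc, hset, Finset.card_insert_of_notMem (by simp [h])]
  rfl

/-- order of a centraliser -/
theorem card_centralizer (x : ι → D8) :
    Nat.card {y : ι → D8 // x * y = y * x} * 2 ^ nc x = 8 ^ Fintype.card ι := by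
  let e : {y : ι → D8 // x * y = y * x} ≃ ((j : ι) → {d : D8 // x j * d = d * x j}) :=
    { toFun := fun y j => ⟨y.1 j, congrFun y.2 j⟩
      invFun := fun f => ⟨fun j => (f j).1, funext fun j => (f j).2⟩
      left_inv := fun y => rfl
      right_inv := fun f => rfl }
  rw [Nat.card_congr e, Nat.card_eq_fintype_card, Fintype.card_pi, nc,
    show 2 ^ #(univ.filter fun j => ¬ Cen (x j)) = ∏ j, 2 ^ (if Cen (x j) then 0 else 1) by
      rw [Finset.prod_pow_eq_pow_sum, Finset.card_filter]
      congr 1
      refine Finset.sum_congr rfl fun j _ => ?_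
      by_cases hj : Cen (x j) <;> simp [hj],
    ← Finset.prod_mul_distrib, Finset.prod_congr rfl fun j _ => eight_card_comm (x j),
    Finset.prod_const, Finset.card_univ]

theorem nc_le_of_card_le {x y : ι → D8}
    (h : Nat.card {z : ι → D8 // x * z = z * x} ≤ Nat.card {z : ι → D8 // y * z = z * y}) :
    nc y ≤ nc x := by
  have hx := card_centralizer x
  have hy := card_centralizer y
  have hpos : 0 < Nat.card {z : ι → D8 // y * z = z * y} := by
    haveI : Nonempty {z : ι → D8 // y * z = z * y} := ⟨⟨1, by simp⟩⟩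
    exact Nat.card_pos
  by_contra hc
  have h2 : 2 ^ nc x < 2 ^ nc y := Nat.pow_lt_pow_right (by norm_num) (by omega)
  have := Nat.mul_le_mul_right (2 ^ nc x) h
  have := (Nat.mul_lt_mul_left hpos).2 h2
  omega

/-- a Klein subgroup in every coordinate -/
def kleinPi (a : ι → ZMod 4) : Subgroup (ι → D8) :=
  Subgroup.centralizer {fun j => sr (a j)}

theorem mem_kleinPi {a : ι → ZMod 4} {x : ι → D8} :
    x ∈ kleinPi a ↔ ∀ j, sr (a j) * x j = x j * sr (a j) := by
  simp only [kleinPi, Subgroup.mem_centralizer_singleton_iff, pi_commute_iff]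
  exact forall_congr' fun j => eq_comm

omit [DecidableEq ι] in
theorem card_kleinPi (a : ι → ZMod 4) :
    Nat.card (kleinPi a) = 4 ^ Fintype.card ι := by
  classical
  have h := card_centralizer (fun j => sr (a j) : ι → D8)
  have hnc : nc (fun j => sr (a j) : ι → D8) = Fintype.card ι := by
    simp [nc, not_cen_sr]
  have e : Nat.card (kleinPi a)
      = Nat.card {y : ι → D8 // (fun j => sr (a j)) * y = y * (fun j => sr (a j))} :=
    Nat.card_congr (Equiv.subtypeEquivRight fun y => by
      rw [kleinPi, Subgroup.mem_centralizer_singleton_iff]; exact eq_comm)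
  rw [← e, hnc, show (8 : ℕ) = 4 * 2 by norm_num, mul_pow] at h
  exact Nat.eq_of_mul_eq_mul_right (by positivity) h

/-- `C(u)` is generated by the Klein products through `u` -/
theorem mem_of_klein_le (H : Subgroup (ι → D8)) {u : ι → D8} (hu : u * u = 1)
    (hH : ∀ a, u ∈ kleinPi a → kleinPi a ≤ H) {y : ι → D8} (hy : u * y = y * u) : y ∈ H := by
  have hinv : ∀ (i : ι) (d : D8), d * d = 1 → u i * d = d * u i → Pi.mulSingle i d ∈ H := by
    intro i d hd hcd
    have hex : ∀ j, ∃ a : ZMod 4, sr a * u j = u j * sr a ∧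
        sr a * (Pi.mulSingle i d : ι → D8) j = (Pi.mulSingle i d : ι → D8) j * sr a := by
      intro j
      by_cases hj : j = i
      · subst hj
        simpa using eight_klein ((pi_sq_iff u).1 hu j) hd hcd
      · simpa [hj] using eight_klein ((pi_sq_iff u).1 hu j) (one_mul 1) (by simp)
    choose a ha using hex
    exact hH a (mem_kleinPi.2 fun j => (ha j).1) (mem_kleinPi.2 fun j => (ha j).2)
  refine Subgroup.pi_mem_of_mulSingle_mem y fun i => ?_
  obtain ⟨d₁, d₂, h₁, h₂, c₁, c₂, hd⟩ :=
    eight_split ((pi_sq_iff u).1 hu i) (congrFun hy i)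
  rw [hd, Pi.mulSingle_mul]
  exact H.mul_mem (hinv i d₁ h₁ c₁) (hinv i d₂ h₂ c₂)

end Cfsg.Agent.Lib.KondoClasses
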