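import Mathlib

/-!
# Largest elementary abelian `2`-groups of permutations

An elementary abelian `2`-group of permutations of `N` points has order at most `2 ^ (N / 2)`;
in case of equality each orbit has at most four points and carries its own direct factor.
-/

namespace Cfsg.Agent.Lib.KondoClasses

open Finset Equiv

variable {X : Type*} [Fintype X] [DecidableEq X]

theorem commute_of_sq {E : Subgroup (Perm X)} (h : ∀ e ∈ E, e * e = 1) {a b : Perm X}
    (ha : a ∈ E) (hb : b ∈ E) : a * b = b * a := by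
  have hi : ∀ c ∈ E, c⁻¹ = c := fun c hc => inv_eq_of_mul_eq_one_right (h c hc)
  calc a * b = (a * b)⁻¹ := (hi _ (E.mul_mem ha hb)).symm
    _ = b * a := by rw [mul_inv_rev, hi a ha, hi b hb]

theorem isPGroup_of_sq {E : Subgroup (Perm X)} (h : ∀ e ∈ E, e * e = 1) : IsPGroup 2 E :=
  fun e => ⟨1, Subtype.ext (by simpa [pow_two] using h e e.2)⟩

/-- orbit of a point with its size -/
theorem orbit_data {E : Subgroup (Perm X)} (h : ∀ e ∈ E, e * e = 1) (p : X) :
    ∃ (O : Finset X) (K : Subgroup (Perm X)) (k : ℕ), (∀ x, x ∈ O ↔ ∃ e ∈ E, e p = x) ∧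
      K ≤ E ∧ (∀ e ∈ K, ∀ x ∈ O, e x = x) ∧ #O = 2 ^ k ∧ Nat.card E = #O * Nat.card K := by
  classical
  haveI : Fact (Nat.Prime 2) := ⟨Nat.prime_two⟩
  refine ⟨univ.filter (fun x => ∃ e ∈ E, e p = x), E ⊓ MulAction.stabilizer (Perm X) p, ?_⟩
  set O := univ.filter (fun x => ∃ e ∈ E, e p = x)
  set K := E ⊓ MulAction.stabilizer (Perm X) p
  have hO : MulAction.orbit E p = (O : Set X) := by
    ext x
    simp only [O, MulAction.mem_orbit_iff, Finset.coe_filter, Finset.mem_univ, true_and,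
      Set.mem_ofPred_eq]
    exact ⟨fun ⟨e, he⟩ => ⟨e, e.2, he⟩, fun ⟨e, he, hx⟩ => ⟨⟨e, he⟩, hx⟩⟩
  have hK : MulAction.stabilizer E p = K.subgroupOf E := by
    ext e
    simp only [K, Subgroup.mem_subgroupOf, Subgroup.mem_inf, MulAction.mem_stabilizer_iff, e.2,
      true_and]
    rfl
  have hcard : Nat.card E = #O * Nat.card K := by
    have h1 : (MulAction.stabilizer E p).index = (MulAction.orbit E p).ncard :=
      MulAction.index_stabilizer E p
    rw [hK, hO, Set.ncard_coe_finset] at h1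
    rw [← h1, ← Nat.card_congr (Subgroup.subgroupOfEquivOfLe (inf_le_left : K ≤ E)).toEquiv,
      mul_comm]
    exact (Subgroup.card_mul_index _).symm
  obtain ⟨m, hm⟩ := IsPGroup.iff_card.1 (isPGroup_of_sq h)
  obtain ⟨k, -, hk⟩ := (Nat.dvd_prime_pow Nat.prime_two).1 (hm ▸ Dvd.intro _ hcard.symm : #O ∣ 2 ^ m)
  refine ⟨k, fun x => by simp [O], inf_le_left, fun e he x hx => ?_, hk, hcard⟩
  obtain ⟨f, hf, rfl⟩ := (Finset.mem_filter.1 hx).2
  have := congrArg (fun σ : Perm X => σ p) (commute_of_sq h he.1 hf)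
  simp only [Perm.mul_apply] at this
  rw [this]
  exact congrArg f he.2

theorem two_mul_le_two_pow : ∀ k : ℕ, 2 * k ≤ 2 ^ k
  | 0 => by norm_num
  | 1 => by norm_num
  | k + 2 => by
    have h := two_mul_le_two_pow (k + 1)
    rw [pow_succ]
    omega

theorem le_two_of_two_pow_le {k : ℕ} (h : 2 ^ k ≤ 2 * k) : k = 1 ∨ k = 2 := by
  rcases k with _ | _ | _ | k
  · simp at h
  · omega
  · omega
  · exfalso
    have h' := two_mul_le_two_pow (k + 2)
    rw [pow_succ] at h
    omega

/-- the bound -/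
theorem card_sq_le : ∀ (N : ℕ) (E : Subgroup (Perm X)) (A : Finset X), #A = N →
    (∀ e ∈ E, e * e = 1) → (∀ e ∈ E, ∀ x, x ∉ A → e x = x) → Nat.card E ^ 2 ≤ 2 ^ N := by
  intro N
  induction N using Nat.strong_induction_on with
  | _ N ih =>
    intro E A hA h hsupp
    by_cases hE : E = ⊥
    · subst hE
      simpa using Nat.one_le_two_pow
    · obtain ⟨e, he, hne⟩ := (Subgroup.bot_or_exists_ne_one E).resolve_left hE
      obtain ⟨p, hp⟩ : ∃ p, e p ≠ p := by
        by_contra hc
        push Not at hc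
        exact hne (Equiv.ext hc)
      obtain ⟨O, K, k, hO, hKE, hKfix, hk, hcard⟩ := orbit_data h p
      have hpA : p ∈ A := by
        by_contra hc
        exact hp (hsupp e he p hc)
      have hOA : O ⊆ A := by
        intro x hx
        obtain ⟨f, hf, rfl⟩ := (hO x).1 hx
        by_contra hc
        exact hc (by
          have := f.injective (hsupp f hf (f p) hc)
          rwa [this])
      have hdlt : #(A \ O) < N := by
        have hpos : 0 < #O := Finset.card_pos.2 ⟨p, (hO p).2 ⟨1, E.one_mem, rfl⟩⟩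
        rw [Finset.card_sdiff_of_subset hOA, ← hA]
        have := Finset.card_le_card hOA
        omega
      have hKb := ih _ hdlt K (A \ O) rfl (fun f hf => h f (hKE hf)) (fun f hf x hx => by
        by_cases hxO : x ∈ O
        · exact hKfix f hf x hxO
        · exact hsupp f (hKE hf) x (fun hxA => hx (Finset.mem_sdiff.2 ⟨hxA, hxO⟩)))
      have hO2 : #O ^ 2 ≤ 2 ^ #O := by
        rw [hk, ← pow_mul, mul_comm]
        exact Nat.pow_le_pow_right (by norm_num) (two_mul_le_two_pow k)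
      calc Nat.card E ^ 2 = #O ^ 2 * Nat.card K ^ 2 := by rw [hcard, mul_pow]
        _ ≤ 2 ^ #O * 2 ^ #(A \ O) := Nat.mul_le_mul hO2 hKb
        _ = 2 ^ N := by
          rw [← pow_add, Finset.card_sdiff_of_subset hOA, ← hA,
            Nat.add_sub_cancel' (Finset.card_le_card hOA)]

/-- equality: every move is made by an element with at most four moved points -/
theorem exists_small_support {E : Subgroup (Perm X)} (h : ∀ e ∈ E, e * e = 1)
    (hbig : 2 ^ Fintype.card X ≤ Nat.card E ^ 2) {e : Perm X} (he : e ∈ E) (p : X) :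
    ∃ ε ∈ E, ε p = e p ∧ #ε.support ≤ 4 := by
  classical
  obtain ⟨O, K, k, hO, hKE, hKfix, hk, hcard⟩ := orbit_data h p
  have hN : #(univ \ O) + #O = Fintype.card X := by
    rw [Finset.card_sdiff_add_card_eq_card (Finset.subset_univ O), Finset.card_univ]
  have hKb := card_sq_le _ K (univ \ O) rfl (fun f hf => h f (hKE hf)) (fun f hf x hx =>
    hKfix f hf x (by simpa using hx))
  have h2 : 2 ^ #O ≤ #O ^ 2 := by
    have h1 : 2 ^ #O * 2 ^ #(univ \ O) ≤ #O ^ 2 * 2 ^ #(univ \ O) := by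
      calc 2 ^ #O * 2 ^ #(univ \ O) = 2 ^ Fintype.card X := by rw [← pow_add, add_comm, hN]
        _ ≤ Nat.card E ^ 2 := hbig
        _ = #O ^ 2 * Nat.card K ^ 2 := by rw [hcard, mul_pow]
        _ ≤ _ := Nat.mul_le_mul_left _ hKb
    exact Nat.le_of_mul_le_mul_right h1 (by positivity)
  have hk12 : k = 1 ∨ k = 2 := by
    apply le_two_of_two_pow_le
    rw [hk, ← pow_mul, mul_comm] at h2
    exact (Nat.pow_le_pow_iff_right (by norm_num)).1 h2
  have hOle : #O ≤ 4 := by rcases hk12 with rfl | rfl <;> simp [hk]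
  -- elements moving only points of `O`
  let F : Subgroup (Perm X) :=
    { carrier := {f | f ∈ E ∧ ∀ x, x ∉ O → f x = x}
      one_mem' := ⟨E.one_mem, fun x _ => rfl⟩
      mul_mem' := fun {f g} hf hg => ⟨E.mul_mem hf.1 hg.1, fun x hx => by
        rw [Perm.mul_apply, hg.2 x hx, hf.2 x hx]⟩
      inv_mem' := fun {f} hf => ⟨E.inv_mem hf.1, fun x hx => by
        rw [Perm.inv_eq_iff_eq, hf.2 x hx]⟩ }
  have hinv : ∀ f ∈ E, ∀ x, f x ∈ O ↔ x ∈ O := by
    intro f hf x
    constructor
    · intro hx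
      obtain ⟨g, hg, hgx⟩ := (hO _).1 hx
      exact (hO x).2 ⟨f⁻¹ * g, E.mul_mem (E.inv_mem hf) hg, by simp [Perm.mul_apply, hgx]⟩
    · intro hx
      obtain ⟨g, hg, rfl⟩ := (hO x).1 hx
      exact (hO _).2 ⟨f * g, E.mul_mem hf hg, rfl⟩
  let res : E →* Perm {x // x ∉ O} := MonoidHom.mk'
    (fun f => (f : Perm X).subtypePerm fun x => not_congr (hinv f f.2 x))
    (fun f g => by ext x; rfl)
  have hker : res.ker = F.subgroupOf E := by
    ext f
    rw [MonoidHom.mem_ker, Subgroup.mem_subgroupOf]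
    constructor
    · intro hf
      exact ⟨f.2, fun x hx => congrArg (fun σ : Perm {x // x ∉ O} => (σ ⟨x, hx⟩ : X)) hf⟩
    · intro hf
      exact Equiv.ext fun x => Subtype.ext (hf.2 x.1 x.2)
  have hrange : Nat.card res.range ^ 2 ≤ 2 ^ Fintype.card {x // x ∉ O} :=
    card_sq_le (X := {x // x ∉ O}) _ res.range univ Finset.card_univ
      (by rintro _ ⟨f, rfl⟩; rw [← map_mul, show f * f = 1 from Subtype.ext (h f f.2), map_one])
      (fun _ _ x hx => absurd (Finset.mem_univ x) hx)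
  have hsplit : Nat.card E = Nat.card F * Nat.card res.range := by
    rw [← Subgroup.card_mul_index res.ker, Subgroup.index_ker, hker,
      Nat.card_congr (Subgroup.subgroupOfEquivOfLe (fun f hf => hf.1 : F ≤ E)).toEquiv]
  have hrestcard : Fintype.card {x // x ∉ O} = #(univ \ O) := by
    rw [Fintype.card_subtype]; congr 1; ext x; simp
  have hF2 : 2 ^ #O ≤ Nat.card F ^ 2 := by
    have h1 : 2 ^ #O * 2 ^ #(univ \ O) ≤ Nat.card F ^ 2 * 2 ^ #(univ \ O) := by
      calc 2 ^ #O * 2 ^ #(univ \ O) = 2 ^ Fintype.card X := by rw [← pow_add, add_comm, hN]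
        _ ≤ Nat.card E ^ 2 := hbig
        _ = Nat.card F ^ 2 * Nat.card res.range ^ 2 := by rw [hsplit, mul_pow]
        _ ≤ _ := Nat.mul_le_mul_left _ (hrestcard ▸ hrange)
    exact Nat.le_of_mul_le_mul_right h1 (by positivity)
  have hFO : #O ≤ Nat.card F := by
    have heq : #O ^ 2 = 2 ^ #O := by rcases hk12 with rfl | rfl <;> simp [hk]
    exact (Nat.pow_le_pow_iff_left (by norm_num : (2 : ℕ) ≠ 0)).1 (heq.le.trans hF2)
  have hp : p ∈ O := (hO p).2 ⟨1, E.one_mem, rfl⟩
  let ev : F → {x // x ∈ O} := fun f => ⟨(f : Perm X) p, (hO _).2 ⟨f, f.2.1, rfl⟩⟩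
  have hev : Function.Injective ev := by
    intro f g hfg
    have hfg' : (f : Perm X) p = (g : Perm X) p := congrArg Subtype.val hfg
    refine Subtype.ext (Equiv.ext fun x => ?_)
    by_cases hx : x ∈ O
    · obtain ⟨d, hd, rfl⟩ := (hO x).1 hx
      have h1 := congrArg (fun σ : Perm X => σ p) (commute_of_sq h f.2.1 hd)
      have h2 := congrArg (fun σ : Perm X => σ p) (commute_of_sq h g.2.1 hd)
      simp only [Perm.mul_apply] at h1 h2
      rw [h1, h2, hfg']
    · rw [f.2.2 x hx, g.2.2 x hx]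
  obtain ⟨f, hf⟩ := (hev.bijective_of_nat_card_le
    (by rw [Nat.card_eq_fintype_card (α := {x // x ∈ O}), Fintype.card_coe]; exact hFO)).2
    ⟨e p, (hO _).2 ⟨e, he, rfl⟩⟩
  refine ⟨f, f.2.1, congrArg Subtype.val hf, le_trans (Finset.card_le_card ?_) hOle⟩
  intro x hx
  by_contra hc
  exact Perm.mem_support.1 hx (f.2.2 x hc)

end Cfsg.Agent.Lib.KondoClasses
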