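import Cfsg.Agent.Lib.KondoClasses.Eight
import Cfsg.Agent.Lib.KondoClasses.Orbit

/-!
# The centraliser of a product of `2n` transpositions in `A_{4n+r}`, `r = 2, 3`

The points are `Fin n × Bool × Bool` (a point, its partner is obtained by flipping the last
coordinate) and `Fin (s + 2)` further ones.
-/

namespace Cfsg.Agent.Lib.KondoClasses

open Equiv Finset DihedralGroup

/-- moved points -/
abbrev Mv (n : ℕ) := Fin n × Bool × Bool

/-- the fixed-point-free involution -/
def flipPerm (n : ℕ) : Perm (Mv n) :=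
  (Equiv.refl (Fin n)).prodCongr ((Equiv.refl Bool).prodCongr (swap false true))

theorem flipPerm_apply {n : ℕ} (i : Fin n) (a b : Bool) : flipPerm n (i, a, b) = (i, a, !b) := by
  cases b <;> rfl

/-- the flip on one quad -/
def flip4 : Perm (Bool × Bool) := (Equiv.refl Bool).prodCongr (swap false true)

/-- rotation of a quad -/
def rot4 : Perm (Bool × Bool) where
  toFun p := (!p.1, xor p.2 p.1)
  invFun p := (!p.1, xor p.2 (!p.1))
  left_inv := by decide
  right_inv := by decide

/-- exchange of the two pairs of a quad -/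
def swap4 : Perm (Bool × Bool) := (swap false true).prodCongr (Equiv.refl Bool)

/-- `D8` as the centraliser of the flip on a quad -/
def quadRep : D8 →* Perm (Bool × Bool) where
  toFun
    | .r k => rot4 ^ k.val
    | .sr k => swap4 * rot4 ^ k.val
  map_one' := by decide
  map_mul' := by decide

theorem quadRep_injective : Function.Injective quadRep := by decide

theorem quadRep_commute (d : D8) : quadRep d * flip4 = flip4 * quadRep d := by revert d; decide

theorem quadRep_two : quadRep (r 2) = flip4 := by decide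

theorem exists_quadRep : ∀ f : Perm (Bool × Bool), f * flip4 = flip4 * f → ∃ d, quadRep d = f := by
  decide

theorem quadRep_psi (d : D8) :
    (if (quadRep d (false, false)).1 = false ∧ (quadRep d (true, false)).1 = true then 1 else -1)
      * Perm.sign (quadRep d) = psi d := by
  revert d; decide

theorem quadRep_fst (d : D8) (a : Bool) :
    (quadRep d (a, false)).1 = if (quadRep d (false, false)).1 = false ∧
      (quadRep d (true, false)).1 = true then a else !a := by
  revert a d; decide

variable {n s : ℕ}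

/-- act separately on every quad -/
def quadPerm (n : ℕ) : (Fin n → D8) →* Perm (Mv n) where
  toFun x := Equiv.prodCongrRight fun i => quadRep (x i)
  map_one' := by
    refine Equiv.ext fun ⟨i, q⟩ => ?_
    simp
  map_mul' x y := by
    refine Equiv.ext fun ⟨i, q⟩ => ?_
    simp

theorem quadPerm_apply (x : Fin n → D8) (i : Fin n) (q : Bool × Bool) :
    quadPerm n x (i, q) = (i, quadRep (x i) q) := rfl

theorem sign_quadPerm (x : Fin n → D8) :
    Perm.sign (quadPerm n x) = ∏ i, Perm.sign (quadRep (x i)) := by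
  convert Perm.sign_prodCongrRight (fun i => quadRep (x i)) using 1
  congr 1

/-- the odd permutation used on the remaining points -/
def tau (s : ℕ) : Perm (Fin (s + 2)) := swap 0 1

theorem sign_tau (s : ℕ) : Perm.sign (tau s) = -1 :=
  Perm.sign_swap (Fin.ne_of_val_ne (by simp))

theorem tau_sq (s : ℕ) : tau s * tau s = 1 := swap_mul_self _ _

/-- a sign realised on the remaining points -/
def tauHom (s : ℕ) : ℤˣ →* Perm (Fin (s + 2)) where
  toFun e := if e = 1 then 1 else tau s
  map_one' := by simp
  map_mul' a b := by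
    rcases Int.units_eq_one_or a with rfl | rfl <;> rcases Int.units_eq_one_or b with rfl | rfl <;>
      simp [tau_sq]

theorem sign_tauHom (e : ℤˣ) : Perm.sign (tauHom s e) = e := by
  rcases Int.units_eq_one_or e with rfl | rfl <;> simp [tauHom, sign_tau]

/-- the centraliser, as pairs of permutations of equal sign -/
def cgrp (n s : ℕ) : Subgroup (Perm (Mv n) × Perm (Fin (s + 2))) where
  carrier := {σ | σ.1 * flipPerm n = flipPerm n * σ.1 ∧ Perm.sign σ.1 = Perm.sign σ.2}
  one_mem' := ⟨by simp, by simp⟩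
  mul_mem' := fun {a b} ha hb => ⟨by
    rw [Prod.fst_mul, mul_assoc, hb.1, ← mul_assoc, ha.1, mul_assoc],
    by rw [Prod.fst_mul, Prod.snd_mul, map_mul, map_mul, ha.2, hb.2]⟩
  inv_mem' := fun {a} ha => ⟨by
    rw [Prod.fst_inv]; exact ((Commute.inv_left (ha.1 : Commute a.1 (flipPerm n))) :),
    by rw [Prod.fst_inv, Prod.snd_inv, map_inv, map_inv, ha.2]⟩

theorem quadPerm_commute (x : Fin n → D8) : quadPerm n x * flipPerm n = flipPerm n * quadPerm n x := by
  refine Equiv.ext fun ⟨i, q⟩ => ?_
  exact Prod.ext rfl (congrArg (fun f : Perm (Bool × Bool) => f q) (quadRep_commute (x i)))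

/-- the product of dihedral groups inside -/
def jhom (n s : ℕ) : (Fin n → D8) →* cgrp n s :=
  ((quadPerm n).prod ((tauHom s).comp (Perm.sign.comp (quadPerm n)))).codRestrict _ fun x =>
    ⟨quadPerm_commute x, (sign_tauHom _).symm⟩

theorem jhom_injective : Function.Injective (jhom n s) := by
  intro x y h
  have h1 : quadPerm n x = quadPerm n y := congrArg (fun z : cgrp n s => z.1.1) h
  funext i
  refine quadRep_injective (Equiv.ext fun q => ?_)
  exact congrArg Prod.snd (congrArg (fun f : Perm (Mv n) => f (i, q)) h1)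

theorem flip_apply {σ : Perm (Mv n)} (h : σ * flipPerm n = flipPerm n * σ) (p : Mv n) :
    σ (p.1, p.2.1, !p.2.2) = ((σ p).1, (σ p).2.1, !(σ p).2.2) := by
  have := congrArg (fun f : Perm (Mv n) => f p) h
  simp only [Perm.mul_apply] at this
  rw [show flipPerm n p = (p.1, p.2.1, !p.2.2) from flipPerm_apply _ _ _] at this
  rw [this, flipPerm_apply]

/-- forget the last coordinate -/
def pairOf (p : Mv n) : Fin n × Bool := (p.1, p.2.1)

theorem pairOf_eq {σ : Perm (Mv n)} (h : σ * flipPerm n = flipPerm n * σ) (p : Mv n) :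
    pairOf (σ p) = pairOf (σ (p.1, p.2.1, false)) := by
  obtain ⟨i, a, b⟩ := p
  cases b
  · rfl
  · rw [show ((i, a, true) : Mv n) = (i, a, !false) from rfl, flip_apply h (i, a, false)]
    rfl

/-- action on pairs -/
def pairHom (n s : ℕ) : cgrp n s →* Perm (Fin n × Bool) :=
  MonoidHom.mk'
    (fun σ =>
      { toFun := fun p => pairOf (σ.1.1 (p.1, p.2, false))
        invFun := fun p => pairOf (σ.1.1⁻¹ (p.1, p.2, false))
        left_inv := fun p => by
          have := pairOf_eq (σ⁻¹).2.1 (σ.1.1 (p.1, p.2, false))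
          simp only [Subgroup.coe_inv, Prod.fst_inv] at this
          show pairOf (σ.1.1⁻¹ ((σ.1.1 (p.1, p.2, false)).1, (σ.1.1 (p.1, p.2, false)).2.1, false)) = p
          rw [← this]
          simp [pairOf]
        right_inv := fun p => by
          have := pairOf_eq σ.2.1 (σ.1.1⁻¹ (p.1, p.2, false))
          show pairOf (σ.1.1 ((σ.1.1⁻¹ (p.1, p.2, false)).1, (σ.1.1⁻¹ (p.1, p.2, false)).2.1, false)) = p
          rw [← this]
          simp [pairOf] })
    fun σ τ => Equiv.ext fun p => by
      exact pairOf_eq σ.2.1 (τ.1.1 (p.1, p.2, false))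

theorem pairHom_apply (σ : cgrp n s) (i : Fin n) (a : Bool) :
    pairHom n s σ (i, a) = pairOf (σ.1.1 (i, a, false)) := rfl

/-- the character counting non-central coordinates -/
def chi (n s : ℕ) : cgrp n s →* ℤˣ :=
  (Perm.sign.comp (pairHom n s)) * (Perm.sign.comp ((MonoidHom.fst _ _).comp (cgrp n s).subtype))

theorem chi_jhom (x : Fin n → D8) : chi n s (jhom n s x) = ∏ i, psi (x i) := by
  have hpair : pairHom n s (jhom n s x) = Equiv.prodCongrRight fun i =>
      if (quadRep (x i) (false, false)).1 = false ∧ (quadRep (x i) (true, false)).1 = true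
      then 1 else swap false true := by
    refine Equiv.ext fun ⟨i, a⟩ => ?_
    rw [pairHom_apply, Equiv.prodCongrRight_apply]
    show pairOf (quadPerm n x (i, a, false)) = _
    rw [quadPerm_apply]
    refine Prod.ext rfl ?_
    show (quadRep (x i) (a, false)).1 = _
    rw [quadRep_fst]
    split <;> cases a <;> rfl
  show Perm.sign (pairHom n s (jhom n s x)) * Perm.sign (quadPerm n x) = _
  rw [hpair, Perm.sign_prodCongrRight,
    sign_quadPerm,
    ← Finset.prod_mul_distrib]
  refine Finset.prod_congr rfl fun i _ => ?_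
  rw [← quadRep_psi]
  split <;> simp

/-- permute quads -/
def quadsPerm (π : Perm (Fin n)) : cgrp n s :=
  ⟨(Equiv.prodCongrLeft fun _ : Bool × Bool => π, 1), by
    refine Equiv.ext fun ⟨i, a, b⟩ => ?_
    simp [flipPerm, Perm.mul_apply], by
    rw [Perm.sign_prodCongrLeft]
    rcases Int.units_eq_one_or (Perm.sign π) with h | h <;> simp [h]
    all_goals decide⟩

theorem jhom_perm (π : Perm (Fin n)) (x : Fin n → D8) :
    (quadsPerm (s := s) π)⁻¹ * jhom n s x * quadsPerm π = jhom n s (x ∘ π) := by
  have hq : (Equiv.prodCongrLeft fun _ : Bool × Bool => π)⁻¹ * quadPerm n x *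
      (Equiv.prodCongrLeft fun _ : Bool × Bool => π) = quadPerm n (x ∘ π) := by
    refine Equiv.ext fun ⟨i, q⟩ => ?_
    rw [Perm.mul_apply, Perm.mul_apply, Perm.inv_eq_iff_eq]
    rfl
  refine Subtype.ext (Prod.ext hq ?_)
  show (1 : Perm (Fin (s + 2)))⁻¹ * tauHom s (Perm.sign (quadPerm n x)) * 1 = _
  rw [inv_one, one_mul, mul_one]
  show _ = tauHom s (Perm.sign (quadPerm n (x ∘ π)))
  refine congrArg _ ?_
  rw [← hq, map_mul, map_mul, map_inv, mul_comm (Perm.sign _)⁻¹, inv_mul_cancel_right]

/-- membership in the range -/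
theorem mem_range_jhom {σ : cgrp n s} (hfst : ∀ p : Mv n, (σ.1.1 p).1 = p.1)
    (hR : σ.1.2 = 1 ∨ σ.1.2 = tau s) : σ ∈ (jhom n s).range := by
  have hd : ∀ i, ∃ d, ∀ q, quadRep d q = (σ.1.1 (i, q)).2 := by
    intro i
    have hinj : Function.Injective fun q : Bool × Bool => (σ.1.1 (i, q)).2 := by
      intro q q' h
      have h' : σ.1.1 (i, q) = σ.1.1 (i, q') :=
        Prod.ext (by rw [hfst, hfst]) h
      exact congrArg Prod.snd (σ.1.1.injective h')
    let f : Perm (Bool × Bool) := Equiv.ofBijective _ (Finite.injective_iff_bijective.1 hinj)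
    have hf : f * flip4 = flip4 * f := by
      refine Equiv.ext fun ⟨a, b⟩ => ?_
      have := congrArg Prod.snd (flip_apply σ.2.1 (i, a, b))
      show (σ.1.1 (i, flip4 (a, b))).2 = flip4 (σ.1.1 (i, a, b)).2
      rw [show flip4 (a, b) = (a, !b) by cases b <;> rfl]
      refine this.trans ?_
      obtain ⟨-, c, e⟩ := σ.1.1 (i, a, b)
      cases e <;> rfl
    obtain ⟨d, hd⟩ := exists_quadRep f hf
    exact ⟨d, fun q => by rw [hd]; rfl⟩
  choose x hx using hd
  have hL : quadPerm n x = σ.1.1 := by
    refine Equiv.ext fun ⟨i, q⟩ => ?_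
    rw [quadPerm_apply]
    exact Prod.ext (hfst (i, q)).symm (hx i q)
  refine ⟨x, Subtype.ext (Prod.ext hL ?_)⟩
  show tauHom s (Perm.sign (quadPerm n x)) = σ.1.2
  rw [hL, σ.2.2]
  rcases hR with h | h <;> simp [h, sign_tau, tauHom]

theorem fin_conj_tau (hs : s ≤ 1) (x : Perm (Fin (s + 2))) (hx : x * x = 1) :
    ∃ c : Perm (Fin (s + 2)), Perm.sign c = 1 ∧ (c⁻¹ * x * c = 1 ∨ c⁻¹ * x * c = tau s) := by
  interval_cases s <;> revert x <;> decide

theorem fin_two_cases (hs : s ≤ 1) (x : Perm (Fin (s + 2))) (hx : x * x = 1)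
    (hxt : (x * tau s) ^ 4 = 1) : x = 1 ∨ x = tau s := by
  interval_cases s <;> revert x <;> decide

theorem fin_even_eq_one (hs : s ≤ 1) (x : Perm (Fin (s + 2))) (hx : x * x = 1)
    (hxe : Perm.sign x = 1) : x = 1 := by
  interval_cases s <;> revert x <;> decide

theorem fin_pow_four (hs : s ≤ 1) (x : Perm (Fin (s + 2))) (k : ℕ) (hx : x ^ 2 ^ k = 1) :
    x ^ 4 = 1 := by
  have h1 : orderOf x ∣ 2 ^ k := orderOf_dvd_of_pow_eq_one hx
  have h2 : orderOf x ∣ Fintype.card (Perm (Fin (s + 2))) := orderOf_dvd_card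
  obtain ⟨j, -, hj⟩ := (Nat.dvd_prime_pow Nat.prime_two).1 h1
  rw [Fintype.card_perm, Fintype.card_fin, hj] at h2
  have hj1 : j ≤ 1 := by
    by_contra hc
    have : 4 ∣ Nat.factorial (s + 2) := dvd_trans (pow_dvd_pow 2 (by omega : 2 ≤ j)) h2
    interval_cases s <;> simp [Nat.factorial] at this
  refine orderOf_dvd_iff_pow_eq_one.1 ?_
  rw [hj]
  exact pow_dvd_pow 2 (m := j) (n := 2) (by omega)

/-- involutions with equally many moved points are conjugate -/
theorem isConj_of_sq {X : Type*} [Fintype X] [DecidableEq X] {σ π : Perm X} (hσ : σ * σ = 1)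
    (hπ : π * π = 1) (h : #σ.support = #π.support) : IsConj σ π := by
  haveI : Fact (Nat.Prime 2) := ⟨Nat.prime_two⟩
  rw [Perm.isConj_iff_cycleType_eq]
  have h1 := Perm.cycleType_of_pow_prime_eq_one (p := 2) (σ := σ) (by rw [pow_two, hσ])
  have h2 := Perm.cycleType_of_pow_prime_eq_one (p := 2) (σ := π) (by rw [pow_two, hπ])
  have e1 := Perm.sum_cycleType σ
  have e2 := Perm.sum_cycleType π
  rw [h1, Multiset.sum_replicate, smul_eq_mul] at e1
  rw [h2, Multiset.sum_replicate, smul_eq_mul] at e2
  rw [h1, h2]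
  congr 1
  omega

/-- every involution is conjugate into the range of `jhom` -/
theorem exists_conj_jhom (hs : s ≤ 1) (u : cgrp n s) (hu : u * u = 1) :
    ∃ c x, c⁻¹ * u * c = jhom n s x := by
  set π := pairHom n s u with hπdef
  have hπ : π * π = 1 := by rw [hπdef, ← map_mul, hu, map_one]
  have hsum : #π.support = π.cycleType.card * 2 := by
    haveI : Fact (Nat.Prime 2) := ⟨Nat.prime_two⟩
    conv_lhs => rw [← Perm.sum_cycleType, Perm.cycleType_of_pow_prime_eq_one (p := 2)
      (by rw [pow_two, hπ] : π ^ 2 = 1)]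
    rw [Multiset.sum_replicate, smul_eq_mul]
  set a := π.cycleType.card
  have hle : a ≤ n := by
    have := Finset.card_le_univ π.support
    rw [Fintype.card_prod, Fintype.card_fin, Fintype.card_bool, hsum] at this
    omega
  set st : Perm (Fin n × Bool) :=
    Equiv.prodCongrRight fun i : Fin n => if i.1 < a then swap false true else 1 with hst
  have hst2 : st * st = 1 := by
    refine Equiv.ext fun ⟨i, b⟩ => ?_
    by_cases hi : i.1 < a <;> simp [hst, hi]
  have hstsupp : #st.support = #π.support := by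
    have : st.support = ((univ : Finset (Fin n)).filter fun i => i.1 < a) ×ˢ univ := by
      ext ⟨i, b⟩
      by_cases hi : i.1 < a <;> cases b <;> simp [hst, hi]
    rw [this, Finset.card_product, Fin.card_filter_val_lt, Nat.min_eq_right hle, Finset.card_univ,
      Fintype.card_bool, hsum]
  obtain ⟨γ, hγ⟩ := isConj_iff.1 (isConj_of_sq hst2 hπ hstsupp)
  obtain ⟨cR, hcR, hcRu⟩ := fin_conj_tau hs u.1.2
    (congrArg (fun z : cgrp n s => z.1.2) hu)
  let cL : Perm (Mv n) :=
    (Equiv.prodAssoc (Fin n) Bool Bool).permCongr (Equiv.prodCongrLeft fun _ : Bool => γ)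
  have hcL : ∀ (i : Fin n) (a b : Bool), cL (i, a, b) = ((γ (i, a)).1, (γ (i, a)).2, b) :=
    fun _ _ _ => rfl
  let c : cgrp n s := ⟨(cL, cR), by
    refine Equiv.ext fun ⟨i, a, b⟩ => ?_
    rw [Perm.mul_apply, Perm.mul_apply, flipPerm_apply, hcL, hcL, flipPerm_apply], by
    rw [hcR, Perm.sign_permCongr, Perm.sign_prodCongrLeft]
    rcases Int.units_eq_one_or (Perm.sign γ) with h | h <;> simp [h]⟩
  have hcpair : pairHom n s c = γ := by
    refine Equiv.ext fun ⟨i, b⟩ => ?_
    rw [pairHom_apply]
    show pairOf (cL (i, b, false)) = _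
    rw [hcL]
    rfl
  have hv : pairHom n s (c⁻¹ * u * c) = st := by
    rw [map_mul, map_mul, map_inv, hcpair, ← hπdef, ← hγ]
    group
  have hmem : c⁻¹ * u * c ∈ (jhom n s).range := by
    refine mem_range_jhom (fun p => ?_) hcRu
    have h1 : pairOf ((c⁻¹ * u * c).1.1 p) = st (p.1, p.2.1) := by
      rw [pairOf_eq (c⁻¹ * u * c).2.1 p, ← pairHom_apply, hv]
    exact (congrArg (fun w : Fin n × Bool => w.1) h1).trans rfl
  obtain ⟨x, hx⟩ := hmem
  exact ⟨c, x, hx.symm⟩

/-- elementary abelian subgroups of maximal order lie in the range -/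
theorem le_range_of_big (hs : s ≤ 1) (P E : Subgroup (cgrp n s)) (hP : IsPGroup 2 P)
    (hJP : (jhom n s).range ≤ P) (hEP : E ≤ P) (hE : ∀ e ∈ E, e * e = 1)
    (hcard : 4 ^ n ≤ Nat.card E) : E ≤ (jhom n s).range := by
  classical
  -- quads are blocks
  have hblock : ∀ σ ∈ P, ∀ (i : Fin n),
      (pairHom n s σ (i, false)).1 = (pairHom n s σ (i, true)).1 := by
    intro σ hσ i
    set π := pairHom n s σ with hπ
    by_contra hne
    set A := π (i, false) with hA
    set B := π (i, true) with hB
    set j := A.1 with hj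
    have hsw : ∀ k : Fin n, pairHom n s (jhom n s (Pi.mulSingle k (sr 0)))
        = swap (k, false) (k, true) := by
      intro k
      refine Equiv.ext fun ⟨l, b⟩ => ?_
      rw [pairHom_apply]
      show pairOf (quadPerm n _ (l, b, false)) = _
      rw [quadPerm_apply]
      by_cases hl : l = k
      · subst hl
        rw [Pi.mulSingle_eq_same]
        cases b
        · rw [swap_apply_left]; exact Prod.ext rfl rfl
        · rw [swap_apply_right]; exact Prod.ext rfl rfl
      · rw [Pi.mulSingle_eq_of_ne hl, map_one, swap_apply_of_ne_of_ne (by simp [hl]) (by simp [hl])]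
        rfl
    set C : Fin n × Bool := (j, !A.2) with hC
    have hAC : A ≠ C := fun h => by
      have := congrArg Prod.snd h
      simp [hC] at this
    have hAB : A ≠ B := fun h => by simpa using π.injective h
    have hBC : B ≠ C := fun h => hne (congrArg Prod.fst h).symm
    have h3 := Perm.isThreeCycle_swap_mul_swap_same hAB hAC hBC
    set y : P := (⟨σ, hσ⟩ * ⟨_, hJP ⟨Pi.mulSingle i (sr 0), rfl⟩⟩ * ⟨σ, hσ⟩⁻¹) *
      ⟨_, hJP ⟨Pi.mulSingle j (sr 0), rfl⟩⟩ with hy
    have hyim : pairHom n s y.1 = swap A B * swap A C := by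
      simp only [hy, Subgroup.coe_mul, Subgroup.coe_inv, map_mul, map_inv, hsw]
      rw [← hπ, ← Equiv.swap_apply_apply π (i, false) (i, true)]
      congr 1
      obtain ⟨j', b⟩ := A
      cases b
      · rfl
      · exact swap_comm _ _
    obtain ⟨k, hk⟩ := hP y
    have hdvd : orderOf (pairHom n s y.1) ∣ 2 ^ k := orderOf_dvd_of_pow_eq_one (by
      rw [← map_pow]
      have := congrArg Subtype.val hk
      simp only [SubmonoidClass.coe_pow, Subgroup.coe_one] at this
      rw [this, map_one])
    rw [hyim, h3.orderOf] at hdvd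
    exact absurd (Nat.prime_three.dvd_of_dvd_pow hdvd) (by norm_num)
  -- restriction to the moved points
  set f : cgrp n s →* Perm (Mv n) := (MonoidHom.fst _ _).comp (cgrp n s).subtype
  have hinj : Set.InjOn f E := by
    intro a ha b hb hab
    have hq := hE _ (E.mul_mem (E.inv_mem ha) hb)
    have h1 : f (a⁻¹ * b) = 1 := by rw [map_mul, map_inv, hab, inv_mul_cancel]
    have hsgn : Perm.sign (a⁻¹ * b).1.2 = 1 := by
      rw [← (a⁻¹ * b).2.2]
      show Perm.sign (f (a⁻¹ * b)) = 1
      rw [h1, map_one]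
    have h2 := fin_even_eq_one hs _ (congrArg (fun z : cgrp n s => z.1.2) hq) hsgn
    exact inv_mul_eq_one.1 (Subtype.ext (Prod.ext h1 h2))
  set EL := E.map f
  have hELsq : ∀ e ∈ EL, e * e = 1 := by
    rintro _ ⟨e, he, rfl⟩
    rw [← map_mul, hE e he, map_one]
  have hELcard : 2 ^ Fintype.card (Mv n) ≤ Nat.card EL ^ 2 := by
    have hc : Nat.card EL = Nat.card E := by
      refine (Nat.card_congr (Equiv.ofBijective (fun e : E => (⟨f e, e, e.2, rfl⟩ : EL)) ⟨?_, ?_⟩)).symm
      · intro a b hab
        exact Subtype.ext (hinj a.2 b.2 (congrArg Subtype.val hab))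
      · rintro ⟨_, e, he, rfl⟩
        exact ⟨⟨e, he⟩, rfl⟩
    rw [hc]
    calc 2 ^ Fintype.card (Mv n) = (4 ^ n) ^ 2 := by
          simp only [Fintype.card_prod, Fintype.card_fin, Fintype.card_bool]
          rw [← pow_mul, show (4 : ℕ) = 2 ^ 2 from rfl, ← pow_mul]
          congr 1
          omega
      _ ≤ _ := Nat.pow_le_pow_left hcard 2
  intro e he
  refine mem_range_jhom (fun p => ?_) ?_
  · by_contra hne
    obtain ⟨ε, ⟨z, hz, rfl⟩, hεp, hεsupp⟩ :=
      exists_small_support hELsq hELcard (⟨e, he, rfl⟩ : f e ∈ EL) p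
    change ¬ (f e p).1 = p.1 at hne
    rw [← hεp] at hne
    -- `z` moves the whole quad of `p` away
    have hquad : ∀ q : Bool × Bool, (f z (p.1, q)).1 = (f z p).1 := by
      intro q
      have hb := hblock z (hEP hz) p.1
      have key : ∀ q : Bool × Bool, (f z (p.1, q)).1 = (pairHom n s z (p.1, false)).1 := by
        rintro ⟨a, b⟩
        have h1 : pairOf (f z (p.1, a, b)) = pairHom n s z (p.1, a) := pairOf_eq z.2.1 (p.1, a, b)
        have h2 : (f z (p.1, a, b)).1 = (pairHom n s z (p.1, a)).1 :=
          congrArg (fun w : Fin n × Bool => w.1) h1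
        rw [h2]
        cases a
        · rfl
        · exact hb.symm
      exact (key q).trans (key p.2).symm
    have hsub : insert (f z p) (({p.1} : Finset (Fin n)) ×ˢ univ) ⊆ (f z).support := by
      intro r hr
      rw [Perm.mem_support]
      rcases Finset.mem_insert.1 hr with rfl | hr
      · exact fun h => hne (congrArg Prod.fst ((f z).injective h))
      · obtain ⟨r1, r2⟩ := r
        simp only [Finset.mem_product, Finset.mem_singleton, Finset.mem_univ, and_true] at hr
        subst hr
        exact fun h => by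
          have h2 := congrArg Prod.fst h
          exact hne ((hquad r2).symm.trans h2)
    have := Finset.card_le_card hsub
    rw [Finset.card_insert_of_notMem (fun h => hne (Finset.mem_singleton.1 (Finset.mem_product.1 h).1)),
      Finset.card_product, Finset.card_singleton,
      Finset.card_univ, Fintype.card_prod, Fintype.card_bool] at this
    omega
  · by_cases hn : n = 0
    · subst hn
      left
      have hsgn : Perm.sign e.1.2 = 1 := by
        rw [← e.2.2, Subsingleton.elim e.1.1 1, map_one]
      exact fin_even_eq_one hs _ (congrArg (fun z : cgrp 0 s => z.1.2) (hE e he)) hsgn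
    · obtain ⟨i⟩ : Nonempty (Fin n) := ⟨⟨0, Nat.pos_of_ne_zero hn⟩⟩
      have hsr : (jhom n s (Pi.mulSingle i (sr 1))).1.2 = tau s := by
        show tauHom s (Perm.sign (quadPerm n _)) = _
        rw [sign_quadPerm, Finset.prod_eq_single i
            (fun j _ hj => by rw [Pi.mulSingle_eq_of_ne hj, map_one, map_one]) (by simp),
          Pi.mulSingle_eq_same, show Perm.sign (quadRep (sr 1)) = -1 from by decide]
        simp [tauHom]
      obtain ⟨k, hk⟩ := hP ⟨e * jhom n s (Pi.mulSingle i (sr 1)),
        P.mul_mem (hEP he) (hJP ⟨_, rfl⟩)⟩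
      refine fin_two_cases hs _ (congrArg (fun z : cgrp n s => z.1.2) (hE e he)) ?_
      rw [← hsr]
      refine fin_pow_four hs _ k ?_
      exact congrArg (fun z : P => z.1.1.2) hk

/-- the central involution -/
theorem jhom_zw_univ : (jhom n s (zw univ)).1 = (flipPerm n, 1) := by
  have h : quadPerm n (zw univ) = flipPerm n := by
    refine Equiv.ext fun ⟨i, q⟩ => ?_
    rw [quadPerm_apply]
    simp [zw, quadRep_two, flipPerm, flip4]
  refine Prod.ext h ?_
  show tauHom s (Perm.sign (quadPerm n (zw univ))) = 1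
  rw [sign_quadPerm,
    Finset.prod_congr rfl fun j _ => show Perm.sign (quadRep (zw univ j)) = 1 by
      simp only [zw, Finset.mem_univ, if_true]; decide, Finset.prod_const_one, map_one]

/-- central involutions -/
theorem eq_jhom_zw_univ (hs : s ≤ 1) (z : cgrp n s) (hz : ∀ σ, σ * z = z * σ) (hz2 : z * z = 1)
    (hz1 : z ≠ 1) : z = jhom n s (zw univ) := by
  obtain ⟨c, x, hx⟩ := exists_conj_jhom hs z hz2
  have hzx : z = jhom n s x := by
    rw [← hx, mul_assoc, ← hz c, inv_mul_cancel_left]
  subst hzx
  have hcen : ∀ i, Cen (x i) := by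
    intro i
    by_contra hc
    obtain ⟨d, hd⟩ := eight_noncentral hc
    have h := congrFun (jhom_injective (s := s) (by
      rw [map_mul, map_mul]; exact (hz (jhom n s (Pi.mulSingle i d))).symm :
      jhom n s (x * Pi.mulSingle i d) = jhom n s (Pi.mulSingle i d * x))) i
    simp only [Pi.mul_apply, Pi.mulSingle_eq_same] at h
    rw [h] at hd
    simp at hd
    exact (by decide : ¬ ((1 : D8) = r 2)) hd
  have hconst : ∀ i j, x i = x j := by
    intro i j
    have h := jhom_perm (s := s) (swap i j) x
    rw [mul_assoc, ← hz, inv_mul_cancel_left] at h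
    have := congrFun (jhom_injective h) i
    simpa using this
  obtain ⟨i, hi⟩ : ∃ i, x i ≠ 1 := by
    by_contra hc
    push Not at hc
    exact hz1 (by rw [show x = 1 from funext hc, map_one])
  refine congrArg _ (funext fun j => ?_)
  rw [hconst j i, (hcen i).resolve_left hi]
  simp [zw]

end Cfsg.Agent.Lib.KondoClasses
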