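import Cfsg.Agent.Lib.KondoClasses.Classes
import Cfsg.Agent.Lib.KondoClasses.Model

/-!
# Groups with an involution centraliser as in `A_{4n+r}`, `r = 2, 3`
-/

namespace Cfsg.Agent.Lib.KondoClasses

open Equiv Finset DihedralGroup

/-- Kondo's count, for the model of the centraliser -/
theorem card_classes_of_cgrp {G : Type*} [Group G] [Finite G]
    (h2 : ∀ H : Subgroup G, H.Normal → H.index ≠ 2) (n s : ℕ) (hs : s ≤ 1) (t : G)
    (ht : orderOf t = 2) (S : Sylow 2 G) (hS : (S : Subgroup G) ≤ Subgroup.centralizer {t})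
    (φ : ↥(Subgroup.centralizer ({t} : Set G)) ≃* cgrp n s) :
    Nat.card {c : ConjClasses G // ∃ x ∈ c.carrier, orderOf x = 2} = n := by
  classical
  haveI : Fact (Nat.Prime 2) := ⟨Nat.prime_two⟩
  set C := Subgroup.centralizer ({t} : Set G) with hC
  let e : (Fin n → D8) →* G := C.subtype.comp (φ.symm.toMonoidHom.comp (jhom n s))
  have hein : Function.Injective e :=
    C.subtype_injective.comp (φ.symm.injective.comp jhom_injective)
  have htC : t ∈ C := Subgroup.mem_centralizer_singleton_iff.2 rfl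
  have ht2 : t * t = 1 := by rw [← pow_two, ← ht, pow_orderOf_eq_one]
  have htj : φ ⟨t, htC⟩ = jhom n s (zw univ) := by
    refine eq_jhom_zw_univ hs _ (fun σ => ?_) ?_ ?_
    · obtain ⟨x, rfl⟩ := φ.surjective σ
      rw [← map_mul, ← map_mul]
      exact congrArg φ (Subtype.ext (Subgroup.mem_centralizer_singleton_iff.1 x.2))
    · rw [← map_mul, show (⟨t, htC⟩ : C) * ⟨t, htC⟩ = 1 from Subtype.ext ht2, map_one]
    · intro h
      have h1 : t = 1 := congrArg Subtype.val
        (φ.injective (h.trans (map_one φ).symm) : (⟨t, htC⟩ : C) = 1)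
      rw [h1, orderOf_one] at ht
      exact absurd ht (by norm_num)
  have het : e (zw univ) = t := by
    show ((φ.symm (jhom n s (zw univ)) : C) : G) = t
    rw [← htj, φ.symm_apply_apply]
  -- a Sylow subgroup containing the image
  have hjP : IsPGroup 2 (jhom n s).range := by
    refine IsPGroup.of_card (n := 3 * n) ?_
    rw [← Nat.card_congr (MonoidHom.ofInjective jhom_injective).toEquiv, Nat.card_eq_fintype_card,
      Fintype.card_fun, Fintype.card_fin, pow_mul, show Fintype.card D8 = 2 ^ 3 from rfl]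
  have heP : IsPGroup 2 e.range := by
    have he : e.range = ((jhom n s).range.map φ.symm.toMonoidHom).map C.subtype := by
      rw [Subgroup.map_map, ← MonoidHom.range_comp]; rfl
    rw [he]
    exact (hjP.map _).map _
  have heC : e.range ≤ C := by rintro _ ⟨x, rfl⟩; exact (φ.symm (jhom n s x)).2
  obtain ⟨c, hcC, hc⟩ := exists_conj_le S hS heP heC
  set S' : Sylow 2 G := MulAut.conj c • S with hS'
  have hmem : ∀ x, x ∈ (S' : Subgroup G) ↔ c⁻¹ * x * c ∈ (S : Subgroup G) := by
    intro x
    rw [hS', Sylow.pointwise_smul_def, Subgroup.mem_pointwise_smul_iff_inv_smul_mem]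
    simp [MulAut.smul_def, MulAut.conj_apply]
  have hS'C : (S' : Subgroup G) ≤ C := fun x hx => by
    have := C.mul_mem (C.mul_mem hcC (hS ((hmem x).1 hx))) (C.inv_mem hcC)
    simpa [mul_assoc] using this
  let F : Frame G (Fin n) :=
    { S := S'
      e := e
      inj := hein
      mem := fun x => (hmem _).2 (hc _ ⟨x, rfl⟩)
      elem := by
        intro E hE hsq hcard
        have hEC : E ≤ C := hE.trans hS'C
        have h := le_range_of_big hs (((S' : Subgroup G).subgroupOf C).map φ.toMonoidHom)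
          ((E.subgroupOf C).map φ.toMonoidHom)
          ((S'.isPGroup'.comap_subtype (K := C)).map _)
          (by
            rintro _ ⟨x, rfl⟩
            exact ⟨φ.symm (jhom n s x), (hmem _).2 (hc _ ⟨x, rfl⟩), φ.apply_symm_apply _⟩)
          (Subgroup.map_mono fun x hx => hE hx)
          (by
            rintro _ ⟨x, hx, rfl⟩
            rw [← map_mul, show x * x = 1 from Subtype.ext (hsq _ hx), map_one])
          (by
            rw [Subgroup.card_map_of_injective φ.injective,
              Nat.card_congr (Subgroup.subgroupOfEquivOfLe hEC).toEquiv]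
            simpa using hcard)
        intro x hx
        obtain ⟨y, hy⟩ := h ⟨⟨x, hEC hx⟩, hx, rfl⟩
        refine ⟨y, ?_⟩
        show ((φ.symm (jhom n s y) : C) : G) = x
        rw [hy]
        exact congrArg Subtype.val (φ.symm_apply_apply ⟨x, hEC hx⟩)
      cent := by rw [het]; exact hS'C
      χ := (chi n s).comp (φ.toMonoidHom.comp (Subgroup.inclusion (le_of_eq (by rw [het]))))
      χ_e := by
        intro x hx
        rw [← chi_jhom (s := s) x]
        show chi n s (φ _) = _
        refine congrArg _ ?_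
        rw [← φ.apply_symm_apply (jhom n s x)]
        exact congrArg φ (Subtype.ext rfl)
      perm := fun π => ⟨((φ.symm (quadsPerm π) : C) : G), fun x => by
        show (C.subtype _)⁻¹ * C.subtype (φ.symm (jhom n s x)) * C.subtype _ = _
        rw [← map_inv, ← map_mul, ← map_mul, ← map_inv, ← map_mul, ← map_mul, jhom_perm]
        rfl⟩
      invo := by
        intro u hu hu2
        rw [het] at hu
        obtain ⟨d, x, hx⟩ := exists_conj_jhom hs (φ ⟨u, hu⟩) (by
          rw [← map_mul, show (⟨u, hu⟩ : C) * ⟨u, hu⟩ = 1 from Subtype.ext hu2, map_one])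
        refine ⟨((φ.symm d : C) : G), x, ?_⟩
        show _ = ((φ.symm (jhom n s x) : C) : G)
        rw [← hx, map_mul, map_mul, map_inv, φ.symm_apply_apply]
        rfl }
  rw [F.card_involution_classes h2, Fintype.card_fin]

/-- the model describes the centraliser in the alternating group -/
theorem nonempty_centralizer_equiv (n s : ℕ) {α : ↥(alternatingGroup (Fin (4 * n + (s + 2))))}
    (hα : α * α = 1) (hsupp : #(α : Perm (Fin (4 * n + (s + 2)))).support = 4 * n) :
    Nonempty (↥(Subgroup.centralizer ({α} : Set ↥(alternatingGroup (Fin (4 * n + (s + 2)))))) ≃*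
      cgrp n s) := by
  classical
  obtain ⟨e⟩ : Nonempty (Fin (4 * n + (s + 2)) ≃ Mv n ⊕ Fin (s + 2)) := ⟨Fintype.equivOfCardEq (by
    simp only [Fintype.card_fin, Fintype.card_sum, Fintype.card_prod, Fintype.card_bool]
    omega)⟩
  set α₀ : Perm (Mv n ⊕ Fin (s + 2)) := Perm.sumCongr (flipPerm n) 1 with hα₀
  have hflip : ∀ p : Mv n, flipPerm n p ≠ p := by
    rintro ⟨i, a, b⟩
    rw [flipPerm_apply]
    simp
  have hflip2 : flipPerm n * flipPerm n = 1 := by
    refine Equiv.ext fun ⟨i, a, b⟩ => ?_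
    rw [Perm.mul_apply, flipPerm_apply, flipPerm_apply, Bool.not_not]
    rfl
  obtain ⟨γ, hγ⟩ := isConj_iff.1 (isConj_of_sq
    (σ := e.permCongrHom (α : Perm (Fin (4 * n + (s + 2))))) (π := α₀)
    (by rw [← map_mul, show (α : Perm (Fin (4 * n + (s + 2)))) * α = 1 from congrArg Subtype.val hα,
      map_one])
    (by rw [hα₀, Perm.sumCongr_mul, hflip2, one_mul]; exact Perm.sumCongr_one)
    (by
      have h1 : (e.permCongrHom (α : Perm (Fin (4 * n + (s + 2))))).support
          = (α : Perm (Fin (4 * n + (s + 2)))).support.map e.toEmbedding := by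
        ext x
        obtain ⟨y, rfl⟩ := e.surjective x
        simp [Equiv.permCongrHom, Perm.mem_support]
      have h2 : α₀.support = (univ : Finset (Mv n)).map Function.Embedding.inl := by
        ext x
        rcases x with x | x
        · simp [hα₀, Perm.mem_support, hflip x]
        · simp [hα₀, Perm.mem_support]
      rw [h1, h2, Finset.card_map, Finset.card_map, hsupp, Finset.card_univ]
      simp only [Fintype.card_prod, Fintype.card_fin, Fintype.card_bool]
      omega))
  let Ψ : Perm (Fin (4 * n + (s + 2))) ≃* Perm (Mv n ⊕ Fin (s + 2)) :=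
    e.permCongrHom.trans (MulAut.conj γ)
  have hΨα : Ψ (α : Perm (Fin (4 * n + (s + 2)))) = α₀ := hγ
  have hΨs : ∀ g, Perm.sign (Ψ g) = Perm.sign g := by
    intro g
    show Perm.sign (γ * e.permCongrHom g * γ⁻¹) = _
    rw [map_mul, map_mul, map_inv, mul_comm (Perm.sign γ), mul_inv_cancel_right]
    exact Perm.sign_permCongr e g
  let ι₀ : cgrp n s →* Perm (Fin (4 * n + (s + 2))) :=
    Ψ.symm.toMonoidHom.comp ((Perm.sumCongrHom _ _).comp (cgrp n s).subtype)
  have hι₀ : ∀ σ, Perm.sign (ι₀ σ) = 1 := by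
    intro σ
    rw [← hΨs]
    show Perm.sign (Ψ (Ψ.symm (Perm.sumCongr σ.1.1 σ.1.2))) = 1
    rw [Ψ.apply_symm_apply, Perm.sign_sumCongr, σ.2.2, Int.units_mul_self]
  let ι₁ : cgrp n s →* ↥(alternatingGroup (Fin (4 * n + (s + 2)))) :=
    ι₀.codRestrict _ fun σ => Equiv.Perm.mem_alternatingGroup.2 (hι₀ σ)
  have hι₁ : ∀ σ, ι₁ σ ∈ Subgroup.centralizer ({α} : Set ↥(alternatingGroup (Fin (4 * n + (s + 2))))) := by
    intro σ
    rw [Subgroup.mem_centralizer_singleton_iff]
    refine Subtype.ext (Ψ.injective ?_)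
    show Ψ (ι₀ σ * α) = Ψ (α * ι₀ σ)
    rw [map_mul, map_mul, hΨα]
    show Ψ (Ψ.symm (Perm.sumCongr σ.1.1 σ.1.2)) * α₀
      = α₀ * Ψ (Ψ.symm (Perm.sumCongr σ.1.1 σ.1.2))
    rw [Ψ.apply_symm_apply]
    show Perm.sumCongr σ.1.1 σ.1.2 * α₀ = α₀ * Perm.sumCongr σ.1.1 σ.1.2
    rw [hα₀, Perm.sumCongr_mul, Perm.sumCongr_mul, σ.2.1, one_mul, mul_one]
  let ι₂ := ι₁.codRestrict _ hι₁
  refine ⟨(MulEquiv.ofBijective ι₂ ⟨fun a b h => ?_, fun g => ?_⟩).symm⟩
  · have h1 := congrArg Subtype.val h
    have h0 : ι₀ a = ι₀ b := congrArg Subtype.val h1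
    exact Subtype.ext (Perm.sumCongrHom_injective (Ψ.symm.injective h0))
  · set σ := Ψ ((g : ↥(alternatingGroup (Fin (4 * n + (s + 2))))) : Perm _) with hσ
    have hcomm : σ * α₀ = α₀ * σ := by
      rw [hσ, ← hΨα, ← map_mul, ← map_mul]
      exact congrArg Ψ (congrArg Subtype.val (Subgroup.mem_centralizer_singleton_iff.1 g.2))
    have hmaps : Set.MapsTo σ (Set.range Sum.inl) (Set.range Sum.inl) := by
      rintro _ ⟨x, rfl⟩
      rcases hx : σ (Sum.inl x) with y | y
      · exact ⟨y, rfl⟩
      · exfalso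
        have h := congrArg (fun f : Perm (Mv n ⊕ Fin (s + 2)) => f (Sum.inl x)) hcomm
        simp only [Perm.mul_apply, hα₀, Perm.sumCongr_apply, Sum.map_inl, hx, Sum.map_inr,
          Perm.one_apply] at h
        exact hflip x (Sum.inl_injective (σ.injective (h.trans hx.symm)))
    obtain ⟨⟨a, b⟩, hab⟩ := Perm.mem_sumCongrHom_range_of_perm_mapsTo_inl hmaps
    change Perm.sumCongr a b = σ at hab
    have ha : a * flipPerm n = flipPerm n * a := by
      have := hcomm
      rw [← hab, hα₀, Perm.sumCongr_mul, Perm.sumCongr_mul] at this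
      exact Equiv.ext fun x => by simpa using congrArg (fun f => f (Sum.inl x)) this
    have hsign : Perm.sign a = Perm.sign b := by
      have h1 : Perm.sign σ = 1 := by
        rw [hσ, hΨs]
        exact Equiv.Perm.mem_alternatingGroup.1 g.1.2
      rw [← hab, Perm.sign_sumCongr] at h1
      rw [← mul_inv_eq_one, Int.units_inv_eq_self]
      exact h1
    refine ⟨⟨(a, b), ha, hsign⟩, Subtype.ext (Subtype.ext ?_)⟩
    show Ψ.symm (Perm.sumCongr a b) = _
    rw [hab, hσ, Ψ.symm_apply_apply]

end Cfsg.Agent.Lib.KondoClasses
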